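import Cfsg.Agent.Lib.InvChar.SuzM11.Model

/-!
Further facts on the point stabiliser of the model: classes of elements of the group of order `81`, two elements
generating a Sylow 3-subgroup with it, and two generating a perfect group modulo it.
-/

set_option autoImplicit false
set_option maxRecDepth 100000
set_option Elab.async false

namespace CfsgLib.InvChar.SuzM11

open CfsgLib.U43 CfsgLib.InvChar.Coset CfsgLib.KnownA.PermCert CfsgLib.KnownA.U4ThreeSchur Subgroup

/-- The six targets. -/
def tgtW (k : ℕ) : List ℕ :=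
  [bW 0, (bW 0).reverse, bW 0 ++ bW 1, (bW 0 ++ bW 1).reverse,
    bW 0 ++ (bW 1).reverse, (bW 0 ++ (bW 1).reverse).reverse].getD k []

/-- The word of the first Sylow generator. -/
def uW : List ℕ := sW [2, 4, 5, 2, 4]
/-- The word of the second Sylow generator. -/
def vW : List ℕ := sW [0, 2, 3, 5, 3, 2]
/-- The nine representatives modulo the group. -/
def uvW (q : ℕ) : List ℕ := (List.replicate (q % 3) uW).flatten ++ (List.replicate (q / 3) vW).flatten
/-- An involution. -/
def sInv : List ℕ := sW [0]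
/-- An element of order three with product of order five. -/
def tThree : List ℕ := sW [1, 2, 3, 5, 2, 5, 3, 2]

theorem class_check : ((List.range 80).all fun e =>
    decide ((classTable.getD e (0, [])).1 < 6) &&
      same (sW (classTable.getD e (0, [])).2 ++ expW (e + 1) ++ (sW (classTable.getD e (0, [])).2).reverse)
        (tgtW (classTable.getD e (0, [])).1)) = true := by
  decide +kernel

theorem count_root : ((List.range 80).filter fun e => decide ((classTable.getD e (0, [])).1 < 2)).length = 20 ∧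
    classTable.length = 80 := by
  decide +kernel

theorem root_inv_check : same ([1, 3] ++ bW 0 ++ [1, 3].reverse) (bW 0).reverse = true ∧
    same ([1] ++ bW 0 ++ [1]) (bW 1) = true ∧ same ([0] ++ bW 0) (bW 0 ++ [0]) = true := by
  decide +kernel

theorem sylow_check : (([uW, vW].all fun w => same (w ++ bW 0) (bW 0 ++ w) &&
      (List.range 81).any fun e => same (w ++ w ++ w) (expW e)) &&
    (List.range 81).any (fun e => same (uW ++ vW) (vW ++ uW ++ expW e))) = true ∧
    ((List.range 81).all fun e => decide (e < 3) || !same (uW ++ expW e) (expW e ++ uW) ||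
      !same (vW ++ expW e) (expW e ++ vW)) = true ∧
    ((List.range 8).all fun q => !same (uvW (q + 1) ++ bW 1) (bW 1 ++ uvW (q + 1)) &&
      !same (uvW (q + 1) ++ bW 1) ((bW 1).reverse ++ uvW (q + 1))) = true := by
  decide +kernel

theorem perfect_check : same (sInv ++ sInv) [] = true ∧ same (tThree ++ tThree ++ tThree) [] = true ∧
    same (sInv ++ tThree ++ sInv ++ tThree ++ sInv ++ tThree ++ sInv ++ tThree ++ sInv ++ tThree) [] = true ∧
    same (sInv ++ bW 2) (bW 2 ++ sInv) = false ∧ same (sInv ++ bW 2) ((bW 2).reverse ++ sInv) = false := by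
  decide +kernel

theorem bW_one : bW 1 = [1] ++ bW 0 ++ [1] := rfl

theorem classTable_mem {e : ℕ} (he : e < 80) : (classTable.getD e (0, [])).2 ∈
    reps0 ++ reps1 ++ reps2 ++ classTable.map Prod.snd := by
  refine List.mem_append_right _ (List.mem_map.2 ⟨_, ?_, rfl⟩)
  rw [List.getD_eq_getElem _ _ (by rw [count_root.2]; exact he)]
  exact List.getElem_mem _

theorem uW_mem : m uW ∈ normalizer (Asub : Set GP) ∧ m vW ∈ normalizer (Asub : Set GP) :=
  ⟨sW_mem (by decide), sW_mem (by decide)⟩

attribute [local irreducible] same act expW uW vW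

/-- Every nontrivial element is conjugate in the normaliser to one of six. -/
theorem class_exp {e : ℕ} (he : e < 80) : (classTable.getD e (0, [])).1 < 6 ∧
    ∃ g ∈ normalizer (Asub : Set GP),
      g * m (expW (e + 1)) * g⁻¹ = m (tgtW (classTable.getD e (0, [])).1) := by
  have h := List.all_eq_true.1 class_check e (List.mem_range.2 he)
  rw [Bool.and_eq_true, decide_eq_true_iff] at h
  refine ⟨h.1, _, sW_mem_of (classTable_mem he), ?_⟩
  rw [← m_reverse, ← m_append, ← m_append]
  exact m_eq h.2

theorem fix_four_of_mem {L : List ℕ} {e : List ℕ} (h : L = sW e) (he : ∀ j ∈ e, j < 6) :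
    m L ∈ normalizer (Asub : Set GP) := h ▸ sW_mem he

theorem root_inverted : ∃ g ∈ normalizer (Asub : Set GP), g * m (bW 0) * g⁻¹ = (m (bW 0))⁻¹ := by
  refine ⟨m [1, 3], fix_four_of_mem (e := [1, 2]) rfl (by decide), ?_⟩
  rw [← m_reverse, ← m_reverse, ← m_append, ← m_append]
  exact m_eq root_inv_check.1

theorem exists_conj_root_one : ∃ g ∈ normalizer (Asub : Set GP), g * m (bW 0) * g⁻¹ = m (bW 1) := by
  refine ⟨m [1], fix_four_of_mem (e := [1]) rfl (by decide), ?_⟩
  rw [← m_reverse, ← m_append, ← m_append]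
  exact m_eq root_inv_check.2.1

theorem uW_facts : m uW * m (bW 0) = m (bW 0) * m uW ∧ m vW * m (bW 0) = m (bW 0) * m vW ∧
    m uW * m uW * m uW ∈ Asub ∧ m vW * m vW * m vW ∈ Asub ∧
    ∃ a ∈ Asub, m uW * m vW = m vW * m uW * a := by
  have h := sylow_check.1
  rw [Bool.and_eq_true] at h
  obtain ⟨h1, h2⟩ := h
  have one : ∀ w ∈ [uW, vW], m w * m (bW 0) = m (bW 0) * m w ∧ m w * m w * m w ∈ Asub := by
    intro w hw
    have hw' := List.all_eq_true.1 h1 w hw
    rw [Bool.and_eq_true, List.any_eq_true] at hw'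
    obtain ⟨hu, e, -, he⟩ := hw'
    refine ⟨?_, ?_⟩
    · rw [← m_append, ← m_append]; exact m_eq hu
    · rw [← m_append, ← m_append, m_eq he]; exact expW_mem e
  obtain ⟨e, -, he⟩ := List.any_eq_true.1 h2
  obtain ⟨a1, a2⟩ := one uW List.mem_cons_self
  obtain ⟨b1, b2⟩ := one vW (List.mem_cons_of_mem _ List.mem_cons_self)
  refine ⟨a1, b1, a2, b2, m (expW e), expW_mem e, ?_⟩
  rw [← m_append, ← m_append, ← m_append]
  exact m_eq he

/-- What both generators centralise in the group. -/
theorem fixed_Asub {a : GP} (ha : a ∈ Asub) (hu : m uW * a = a * m uW) (hv : m vW * a = a * m vW) :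
    a ∈ zpowers (m (bW 0)) := by
  obtain ⟨e, he, rfl⟩ := exists_exp ha
  have h := List.all_eq_true.1 sylow_check.2.1 e (List.mem_range.2 he)
  rw [← m_append, ← m_append] at hu hv
  rw [m_eq_iff.1 hu, m_eq_iff.1 hv] at h
  simp only [Bool.not_true, Bool.or_false, decide_eq_true_iff] at h
  rw [m_expW, show e % 3 = e by omega, show e / 3 % 3 = 0 by omega, show e / 9 % 3 = 0 by omega,
    show e / 27 % 3 = 0 by omega, pow_zero, pow_zero, pow_zero, one_mul, one_mul, mul_one]
  exact pow_mem (mem_zpowers _) _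

theorem m_uvW (q : ℕ) : m (uvW q) = m uW ^ (q % 3) * m vW ^ (q / 3) := by
  rw [uvW, m_append, m_replicate, m_replicate]

/-- The eight elements move the second root subgroup. -/
theorem uvW_moves {q : ℕ} (hq : q < 8) : m (uvW (q + 1)) * m (bW 1) * (m (uvW (q + 1)))⁻¹ ≠ m (bW 1) ∧
    m (uvW (q + 1)) * m (bW 1) * (m (uvW (q + 1)))⁻¹ ≠ (m (bW 1))⁻¹ := by
  have h := List.all_eq_true.1 sylow_check.2.2 q (List.mem_range.2 hq)
  simp only [Bool.and_eq_true, Bool.not_eq_true'] at h
  constructor
  · intro e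
    rw [mul_inv_eq_iff_eq_mul, ← m_append, ← m_append, m_eq_iff, h.1] at e
    exact Bool.noConfusion e
  · intro e
    rw [mul_inv_eq_iff_eq_mul, ← m_reverse, ← m_append, ← m_append, m_eq_iff, h.2] at e
    exact Bool.noConfusion e

theorem perfect_facts : m sInv ∈ normalizer (Asub : Set GP) ∧ m tThree ∈ normalizer (Asub : Set GP) ∧
    m sInv * m sInv = 1 ∧ m tThree ^ 3 = 1 ∧ (m sInv * m tThree) ^ 5 = 1 ∧
    m sInv * m (bW 2) * (m sInv)⁻¹ ≠ m (bW 2) ∧ m sInv * m (bW 2) * (m sInv)⁻¹ ≠ (m (bW 2))⁻¹ := by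
  obtain ⟨h1, h2, h3, h4, h5⟩ := perfect_check
  refine ⟨sW_mem (by decide), sW_mem (by decide), ?_, ?_, ?_, fun e => ?_, fun e => ?_⟩
  · rw [← m_append, ← m_nil]; exact m_eq h1
  · rw [pow_succ, pow_two, ← m_append, ← m_append, ← m_nil]; exact m_eq h2
  · rw [← m_append, pow_succ, pow_succ, pow_succ, pow_two, ← m_append, ← m_append, ← m_append, ← m_append,
      ← m_nil]
    simp only [← List.append_assoc]
    exact m_eq h3
  · rw [mul_inv_eq_iff_eq_mul, ← m_append, ← m_append, m_eq_iff, h4] at e
    exact Bool.noConfusion e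
  · rw [mul_inv_eq_iff_eq_mul, ← m_reverse, ← m_append, ← m_append, m_eq_iff, h5] at e
    exact Bool.noConfusion e

end CfsgLib.InvChar.SuzM11
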