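/-!
Data for the stabiliser `3⁴ : A₆` of a point in the model of `U₄(3)`: words in the seven letters.
-/

set_option autoImplicit false

namespace CfsgLib.InvChar.SuzM11

/-- Generators of the stabiliser of the point `4`. -/
def sGens : List (List Nat) := [[0],[1],[3],[4],[6],[5,0,6,5]]

/-- Conjugators from the first root element to the four basis elements. -/
def conjB : List (List Nat) := [[],[1],[5,0,6,5,1],[3,5,0,6,5,1]]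

/-- Transversal at base point 3, as positions in `sGens`. -/
def reps0 : List (List Nat) := [
  [], [1], [3], [1,3], [2,3,5,1,3,2], [2,3,5,2,3,2], [2,4,5,2,3,4], [2,4,5,2,4,1], [4,2,5,2,3,4],
  [4,2,5,2,4,1], [0,2,3,5,1,3,2], [0,2,3,5,2,3,2], [2,3,5,2,5,1,3,2], [2,3,5,2,5,2,3,2], [0,2,3,5,2,5,1,3,2],
  [0,2,3,5,2,5,2,3,2], [1,2,3,5,2,5,1,3,2], [1,2,3,5,2,5,2,3,2], [2,1,3,5,2,5,1,3,2], [2,1,3,5,2,5,2,3,2]]

/-- Transversal at base point 32, as positions in `sGens`. -/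
def reps1 : List (List Nat) := [
  [], [2,3,5,3,2], [2,4,5,2,4], [4,2,5,2,4], [0,2,3,5,3,2], [2,3,5,3,4,5,2,4], [2,3,5,4,3,5,2,4],
  [2,4,5,1,2,5,1,4], [4,2,5,2,1,5,1,4]]

/-- Transversal at base point 5, as positions in `sGens`. -/
def reps2 : List (List Nat) := [
  [], [0]]

/-- For the nontrivial elements `1, …, 80`: a target among six and a conjugator. -/
def classTable : List (Nat × List Nat) := [
  (0,[]), (1,[]), (0,[1]), (2,[]), (5,[]), (1,[1]), (4,[]), (3,[]), (0,[1,5]), (2,[5]), (5,[5]), (3,[5,0]),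
  (1,[1,5,0]), (4,[5,0]), (5,[5,0,1]), (4,[5,1]), (5,[5,1,5]), (1,[1,5]), (4,[5]), (3,[5]), (4,[5,0,1]),
  (4,[5,1,5]), (5,[5,1]), (2,[5,0]), (5,[5,0]), (0,[1,5,0]), (0,[1,5,2]), (5,[5,2,1]), (3,[5,0,2]), (5,[5,2]),
  (5,[5,1,5,2]), (4,[5,0,2]), (2,[5,2]), (4,[5,1,2]), (1,[1,5,0,2]), (2,[5,2,5,1,5]), (2,[5,2,5,0,1]),
  (3,[5,2,5,1]), (2,[5,0,2,5]), (4,[5,2,1,5]), (1,[1,5,2,5]), (3,[5,0,2,5,0]), (0,[1,5,2,5,0]),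
  (5,[5,1,2,5,1]), (4,[5,1,2,5,0]), (1,[1,5,0,2,5,0]), (2,[5,2,5,0]), (0,[1,5,0,2,5]), (5,[5,1,2,5]),
  (3,[5,2,5]), (2,[5,0,2,5,1]), (2,[5,2,5,2]), (3,[5,0,2,5,1,5]), (1,[1,5,2]), (2,[5,0,2]), (4,[5,2,1]),
  (3,[5,2]), (0,[1,5,0,2]), (5,[5,1,2]), (4,[5,2]), (5,[5,0,2]), (4,[5,1,5,2]), (5,[5,1,2,5,0]), (3,[5,2,5,0]),
  (0,[1,5,0,2,5,0]), (3,[5,0,2,5,1]), (2,[5,0,2,5,1,5]), (3,[5,2,5,2]), (1,[1,5,0,2,5]), (2,[5,2,5]),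
  (4,[5,1,2,5]), (3,[5,2,5,1,5]), (2,[5,2,5,1]), (3,[5,2,5,0,1]), (2,[5,0,2,5,0]), (4,[5,1,2,5,1]),
  (1,[1,5,2,5,0]), (3,[5,0,2,5]), (0,[1,5,2,5]), (5,[5,2,1,5])]

end CfsgLib.InvChar.SuzM11
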