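import Cfsg.Agent.Lib.InvChar.SuzM11.Sylow
import Cfsg.Agent.Lib.Perm.DegreeEleven
import Cfsg.Agent.Lib.Perm.SharplyFour
import Cfsg.Agent.Lib.Recog.OrderM11Unique
import Cfsg.Agent.Lib.Golay.Mathieu

/-!
The action of the normaliser of `A` on the eleven groups of order three generated by conjugates of `y` in `A`.
-/

set_option autoImplicit false
set_option maxRecDepth 100000
set_option linter.unusedSectionVars false
set_option synthInstance.maxSize 4096
set_option synthInstance.maxHeartbeats 200000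

namespace CfsgLib.InvChar.SuzM11

open CfsgLib.U43 CfsgLib.InvChar.Coset CfsgLib.KnownA.U4ThreeSchur Subgroup
open CfsgLib.InvChar.SuzY CfsgLib.InvChar.SuzType CfsgLib.Invol

attribute [local irreducible] same act bW expW uW vW uvW sInv tThree

theorem not_solvable_of_rel {R : Type*} [Group R] {a b : R} (ha : a * a = 1) (hb : b ^ 3 = 1)
    (hab : (a * b) ^ 5 = 1) (hne : a ≠ 1) : ¬ Group.IsSolvable R := by
  intro h
  obtain ⟨n, hn⟩ := h.solvable
  suffices ∀ k, a ∈ derivedSeries R k ∧ b ∈ derivedSeries R k from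
    hne (mem_bot.1 (hn ▸ (this n).1))
  intro k
  induction k with
  | zero => exact ⟨mem_top _, mem_top _⟩
  | succ k ih =>
    obtain ⟨hak, hbk⟩ := ih
    set D := derivedSeries R k with hD
    obtain ⟨x, hx⟩ : ∃ x, x = Abelianization.of (⟨a, hak⟩ : ↥D) := ⟨_, rfl⟩
    obtain ⟨w, hw⟩ : ∃ w, w = Abelianization.of (⟨b, hbk⟩ : ↥D) := ⟨_, rfl⟩
    have h2 : x * x = 1 := by rw [hx, ← map_mul, show (⟨a, hak⟩ * ⟨a, hak⟩ : ↥D) = 1 from Subtype.ext ha, map_one]
    have h3 : w ^ 3 = 1 := by rw [hw, ← map_pow, show (⟨b, hbk⟩ : ↥D) ^ 3 = 1 from Subtype.ext hb, map_one]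
    have h5 : (x * w) ^ 5 = 1 := by
      rw [hx, hw, ← map_mul, ← map_pow, show ((⟨a, hak⟩ : ↥D) * ⟨b, hbk⟩) ^ 5 = 1 from Subtype.ext hab, map_one]
    have e1 : x * (w * w) = 1 := by
      rw [mul_pow, pow_succ x 4, show x ^ 4 = 1 by rw [show 4 = 2 * 2 from rfl, pow_mul, pow_two x, h2, one_pow],
        one_mul, show w ^ 5 = w * w by rw [show 5 = 3 + 2 from rfl, pow_add, h3, one_mul, pow_two]] at h5
      exact h5
    have e2 : x = w := by
      calc x = x * w ^ 3 := by rw [h3, mul_one]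
        _ = x * (w * w) * w := by rw [pow_succ, pow_two, mul_assoc x]
        _ = w := by rw [e1, one_mul]
    have e3 : w = 1 := by
      rw [e2] at h2
      rwa [pow_succ, pow_two, h2, one_mul] at h3
    have hmem : ∀ {c : R} (hc : c ∈ D), Abelianization.of (⟨c, hc⟩ : ↥D) = 1 → c ∈ derivedSeries R (k + 1) := by
      intro c hc he
      rw [derivedSeries_succ, ← hD, ← map_subtype_commutator]
      exact ⟨⟨c, hc⟩, by rw [← Abelianization.ker_of]; exact he, rfl⟩
    exact ⟨hmem hak (hx.symm.trans (e2.trans e3)), hmem hbk (hw.symm.trans e3)⟩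

/-- Two commuting elements of order three, the second no power of the first, force nine to divide the order. -/
theorem nine_dvd {R : Type*} [Group R] [Finite R] {a b : R} (ha : a ^ 3 = 1) (hb : b ^ 3 = 1) (hab : a * b = b * a)
    (ha1 : a ≠ 1) (hba : b ∉ zpowers a) : 9 ∣ Nat.card R := by
  haveI : Fact (Nat.Prime 3) := ⟨Nat.prime_three⟩
  have hp : IsPGroup 3 ↥(zpowers a ⊔ zpowers b) := by
    refine (isPGroup_zpowers_of_pow (k := 1) ha).to_sup_of_normal_left' (isPGroup_zpowers_of_pow (k := 1) hb) ?_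
    refine zpowers_le.2 (centralizer_le_normalizer _ (mem_centralizer_iff.2 fun c hc => ?_))
    obtain ⟨i, rfl⟩ := mem_zpowers_iff.1 hc
    exact ((show Commute a b from hab).zpow_left i).eq
  obtain ⟨k, hk⟩ := IsPGroup.iff_card.1 hp
  have h3 : Nat.card ↥(zpowers a) = 3 := by rw [Nat.card_zpowers, orderOf_eq_prime ha ha1]
  refine dvd_trans ?_ (card_subgroup_dvd_card (zpowers a ⊔ zpowers b))
  rw [hk]
  rcases lt_or_ge k 2 with hlt | hge
  · refine absurd ?_ hba
    have hle : Nat.card ↥(zpowers a ⊔ zpowers b) ≤ Nat.card ↥(zpowers a) := by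
      rw [hk, h3]; interval_cases k <;> norm_num
    rw [eq_of_le_of_card_ge (le_sup_left : zpowers a ≤ zpowers a ⊔ zpowers b) hle]
    exact mem_sup_right (mem_zpowers b)
  · exact (show (9 : ℕ) = 3 ^ 2 by norm_num) ▸ pow_dvd_pow 3 hge

theorem card_of_equiv_psl {R : Type*} [Group R]
    (e : R ≃* Matrix.ProjectiveSpecialLinearGroup (Fin 2) (ZMod 11)) : Nat.card R = 660 := by
  haveI : Fact (Nat.Prime 11) := ⟨by norm_num⟩
  rw [Nat.card_congr e.toEquiv]
  exact CfsgLib.Classical.card_psl_two_eq (F := ZMod 11) (ZMod.card 11) 660 (by norm_num)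

namespace Ctx

variable {G : Type*} [Group G] [Finite G] {z : G} {Q : Subgroup G} {φ : G → V} {y y2 y3 : G}
  {π : ↥(centralizer ({y} : Set G)) →* GP} (K : Ctx z Q φ y y2 y3 π)

/-- The stabiliser of `⟨y⟩` in the normaliser of `A`. -/
noncomputable def H (K : Ctx z Q φ y y2 y3 π) : Subgroup ↥(normalizer (K.A : Set G)) :=
  (normalizer ((zpowers y : Subgroup G) : Set G)).subgroupOf (normalizer (K.A : Set G))

include K

theorem card_H : Nat.card ↥K.H = 174960 := by
  obtain ⟨M, hM⟩ : ∃ M, M = normalizer ((zpowers y : Subgroup G) : Set G) ⊓ normalizer (K.A : Set G) := ⟨_, rfl⟩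
  obtain ⟨C0, hC0⟩ : ∃ C0, C0 = centralizer ({y} : Set G) ⊓ normalizer (K.A : Set G) := ⟨_, rfl⟩
  have hle : C0 ≤ M := hC0 ▸ hM ▸ inf_le_inf_right _ K.cent_le_normalizer
  obtain ⟨t, ht, hty⟩ := K.exists_inverting_y
  have htM : t ∈ M := hM ▸ ⟨K.mem_normalizer_of_conj (hty ▸ inv_mem (mem_zpowers y)), ht⟩
  have hidx : (C0.subgroupOf M).index = 2 := by
    rw [index_eq_two_iff_exists_notMem_and]
    refine ⟨⟨t, htM⟩, fun h => ?_, fun b => or_iff_not_imp_right.2 fun hb => ?_⟩
    · rw [mem_subgroupOf, hC0] at h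
      exact K.y_ne_inv (by rw [← hty, mem_centralizer_singleton_iff.1 h.1, mul_inv_cancel_right])
    · have hbM : (b : G) ∈ normalizer ((zpowers y : Subgroup G) : Set G) ⊓ normalizer (K.A : Set G) :=
        (SetLike.ext_iff.1 hM _).1 b.2
      rw [mem_subgroupOf, hC0] at hb ⊢
      have hnb : (b : G) * y ≠ y * b := fun e => hb ⟨mem_centralizer_singleton_iff.2 e, hbM.2⟩
      refine ⟨mem_centralizer_singleton_iff.2 ?_, mul_mem hbM.2 ht⟩
      rcases mem_zpowers_three K.T.h1.cube ((mem_normalizer_iff.1 hbM.1 y).1 (mem_zpowers y)) with e | e | e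
      · exact absurd (conj_eq_one_iff.1 e) (SuzY.Std.y_ne_one K.T)
      · exact absurd (mul_inv_eq_iff_eq_mul.1 e) hnb
      · show (b : G) * t * y = y * ((b : G) * t)
        rw [← mul_inv_eq_iff_eq_mul, show (b : G) * t * y * ((b : G) * t)⁻¹ = (b : G) * (t * y * t⁻¹) * (b : G)⁻¹ by
          group, hty, show (b : G) * y⁻¹ * (b : G)⁻¹ = ((b : G) * y * (b : G)⁻¹)⁻¹ by group, e,
          inv_eq_iff_mul_eq_one]
        exact K.T.h1.cube
  have h := card_mul_index (C0.subgroupOf M)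
  rw [hidx, Nat.card_congr (subgroupOfEquivOfLe hle).toEquiv] at h
  rw [H, ← card_map_of_injective (subtype_injective _), subgroupOf_map_subtype, ← hM, ← h, hC0,
    K.card_cent_normalizer]

theorem index_H : K.H.index = 11 := by
  have h := card_mul_index K.H
  rw [K.card_H, K.card_normalizer_A] at h
  omega

/-- `A` fixes every point. -/
theorem A_le_core : K.A.subgroupOf (normalizer (K.A : Set G)) ≤ K.H.normalCore :=
  normal_le_normalCore.2 fun a ha =>
    mem_subgroupOf.2 (K.cent_le_normalizer (K.A_le (mem_subgroupOf.1 ha)))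

/-- An element moving a basis element out of its subgroup moves a point. -/
theorem not_mem_core {n : ↥(centralizer ({y} : Set G))} (hn : (n : G) ∈ normalizer (K.A : Set G)) {i : ℕ}
    (hi : i < 4) (h1 : π n * m (bW i) * (π n)⁻¹ ≠ m (bW i))
    (h2 : π n * m (bW i) * (π n)⁻¹ ≠ (m (bW i))⁻¹) : (⟨(n : G), hn⟩ : ↥(normalizer (K.A : Set G))) ∉ K.H.normalCore := by
  intro h
  obtain ⟨x, hx, hx3, hxc, -⟩ := K.exists_basis_lift hi
  obtain ⟨g, hg, hgy⟩ := K.transitive (K.mem_A.2 ⟨x.2, hx ▸ bW_mem hi⟩) hxc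
  have hc : g⁻¹ * (n : G) * g ∈ normalizer ((zpowers y : Subgroup G) : Set G) := by
    have h' := mem_subgroupOf.1 (h (⟨g, hg⟩⁻¹ : ↥(normalizer (K.A : Set G))))
    simpa using h'
  have hkey : (n : G) * (x : G) * (n : G)⁻¹ =
      g * (g⁻¹ * (n : G) * g * y * (g⁻¹ * (n : G) * g)⁻¹) * g⁻¹ := by rw [← hgy]; group
  rcases mem_zpowers_three K.T.h1.cube ((mem_normalizer_iff.1 hc y).1 (mem_zpowers y)) with e | e | e
  · exact SuzY.Std.y_ne_one K.T (conj_eq_one_iff.1 e)
  · rw [e, hgy] at hkey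
    refine h1 ?_
    rw [← hx, ← map_inv, ← map_mul, ← map_mul]
    exact congrArg π (Subtype.ext hkey)
  · rw [e, show g * (y * y) * g⁻¹ = g * y * g⁻¹ * (g * y * g⁻¹) by group, hgy] at hkey
    refine h2 ?_
    rw [← hx, ← map_inv, ← map_mul, ← map_mul, ← map_inv]
    exact congrArg π (Subtype.ext (hkey.trans (inv_eq_of_mul_eq_one_right (by rw [← mul_assoc]; exact hx3)).symm))

/-- The quotient is the Mathieu group. -/
theorem quot_M11 : ∃ _ : (K.A.subgroupOf (normalizer (K.A : Set G))).Normal,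
    Cfsg.Spor.IsoM11 (↥(normalizer (K.A : Set G)) ⧸ K.A.subgroupOf (normalizer (K.A : Set G))) := by
  classical
  haveI hNor : (K.A.subgroupOf (normalizer (K.A : Set G))).Normal := normal_in_normalizer
  refine ⟨hNor, ?_⟩
  letI : Fintype (↥(normalizer (K.A : Set G)) ⧸ K.H) := Fintype.ofFinite _
  have hα : Fintype.card (↥(normalizer (K.A : Set G)) ⧸ K.H) = 11 := by
    rw [← Nat.card_eq_fintype_card, ← index_eq_card, K.index_H]
  let ρ := MulAction.toPermHom ↥(normalizer (K.A : Set G)) (↥(normalizer (K.A : Set G)) ⧸ K.H)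
  have hker : ρ.ker = K.H.normalCore := (normalCore_eq_ker K.H).symm
  haveI : MulAction.IsPretransitive ↥ρ.range (↥(normalizer (K.A : Set G)) ⧸ K.H) := ⟨fun p q => by
    obtain ⟨g, rfl⟩ := MulAction.exists_smul_eq ↥(normalizer (K.A : Set G)) p q
    exact ⟨⟨ρ g, g, rfl⟩, rfl⟩⟩
  -- orders
  have hprod : Nat.card ↥ρ.range * Nat.card ↥ρ.ker = 1924560 := by
    rw [← K.card_normalizer_A, ← Nat.card_congr (QuotientGroup.quotientKerEquivRange ρ).toEquiv, mul_comm,
      ← index_eq_card, card_mul_index]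
  have hA243 : Nat.card ↥(K.A.subgroupOf (normalizer (K.A : Set G))) = 243 := by
    rw [Nat.card_congr (subgroupOfEquivOfLe le_normalizer).toEquiv, K.card_A]
  have hdvd : Nat.card ↥ρ.range ∣ 7920 := by
    obtain ⟨c, hc⟩ : 243 ∣ Nat.card ↥ρ.ker := hA243 ▸ card_dvd_of_le (hker ▸ K.A_le_core)
    exact ⟨c, by
      have : Nat.card ↥ρ.range * c * 243 = 7920 * 243 := by rw [mul_assoc, mul_comm c, ← hc, hprod]
      omega⟩
  -- lifts from the model
  obtain ⟨L, hL⟩ : ∃ L, L = (normalizer (Asub : Set GP)).comap π := ⟨_, rfl⟩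
  let ι : ↥L →* ↥(normalizer (K.A : Set G)) :=
    ((centralizer ({y} : Set G)).subtype.comp L.subtype).codRestrict _ fun n =>
      K.mem_normalizer_iff'.2 (show π n ∈ normalizer (Asub : Set GP) by have := n.2; simp only [hL] at this; exact this)
  let F : ↥L →* ↥ρ.range := ρ.rangeRestrict.comp ι
  have kill : ∀ n : ↥L, π n ∈ Asub → F n = 1 := fun n hn =>
    Subtype.ext (show ρ (ι n) = 1 from MonoidHom.mem_ker.1 (hker ▸ K.A_le_core
      (mem_subgroupOf.2 (K.mem_A.2 ⟨(n : ↥(centralizer ({y} : Set G))).2, hn⟩))))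
  have moved : ∀ (n : ↥L) (i : ℕ), i < 4 → π n * m (bW i) * (π n)⁻¹ ≠ m (bW i) →
      π n * m (bW i) * (π n)⁻¹ ≠ (m (bW i))⁻¹ → F n ≠ 1 := fun n i hi e1 e2 e =>
    K.not_mem_core (n := (n : ↥(centralizer ({y} : Set G)))) (ι n).2 hi e1 e2
      (hker ▸ MonoidHom.mem_ker.2 (congrArg Subtype.val e :) :)
  have lift : ∀ {w : GP}, w ∈ normalizer (Asub : Set GP) → ∃ n : ↥L, π n = w := fun {w} hw => by
    obtain ⟨n, rfl⟩ := K.surj w
    exact ⟨⟨n, by rw [hL]; exact hw⟩, rfl⟩
  -- insolubility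
  obtain ⟨hsN, htN, hs2, ht3, hst, hsm1, hsm2⟩ := perfect_facts
  obtain ⟨s, hs⟩ := lift hsN
  obtain ⟨t, ht⟩ := lift htN
  have hns : ¬ Group.IsSolvable ↥ρ.range := by
    refine not_solvable_of_rel (a := F s) (b := F t) ?_ ?_ ?_ (moved s 2 (by norm_num) (hs ▸ hsm1) (hs ▸ hsm2))
    · rw [← map_mul]; exact kill _ (by simp only [Subgroup.coe_mul, map_mul, hs, hs2]; exact one_mem _)
    · rw [← map_pow]; exact kill _ (by simp only [SubmonoidClass.coe_pow, map_pow, ht, ht3]; exact one_mem _)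
    · rw [← map_mul, ← map_pow]
      exact kill _ (by simp only [SubmonoidClass.coe_pow, Subgroup.coe_mul, map_pow, map_mul, hs, ht, hst]
                       exact one_mem _)
  -- nine divides
  obtain ⟨huN, hvN⟩ := uW_mem
  obtain ⟨u, hu⟩ := lift huN
  obtain ⟨v, hv⟩ := lift hvN
  obtain ⟨-, -, hu3, hv3, a, ha, huv⟩ := uW_facts
  have hpow3 : ∀ {n : ↥L}, π n * π n * π n ∈ Asub → F n ^ 3 = 1 := fun {n} h => by
    rw [← map_pow]; exact kill _ (by rw [SubmonoidClass.coe_pow, map_pow, pow_succ, pow_two]; exact h)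
  have hne : ∀ {n : ↥L} (q : ℕ), q < 8 → π n = m (uvW (q + 1)) → F n ≠ 1 := fun {n} q hq e =>
    moved n 1 (by norm_num) (e ▸ (uvW_moves hq).1) (e ▸ (uvW_moves hq).2)
  have hnine : 9 ∣ Nat.card ↥ρ.range := by
    have hFu : F u ≠ 1 := hne 0 (by norm_num) (by rw [hu, m_uvW]; simp)
    refine nine_dvd (hpow3 (hu ▸ hu3)) (hpow3 (hv ▸ hv3)) ?_ hFu ?_
    · have h : F ((v * u)⁻¹ * (u * v)) = 1 := kill _ (by
        simp only [Subgroup.coe_mul, Subgroup.coe_inv, map_mul, map_inv, hu, hv, huv, inv_mul_cancel_left]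
        exact ha)
      rwa [map_mul, map_inv, inv_mul_eq_one, map_mul, map_mul, eq_comm] at h
    · intro hm
      have h3 := hpow3 (n := u) (hu ▸ hu3)
      have hc : ∃ k < 3, F v = F u ^ k := by
        rcases mem_zpowers_three (by rw [← pow_two, ← pow_succ]; exact h3) hm with e | e | e
        · exact ⟨0, by norm_num, by rw [e, pow_zero]⟩
        · exact ⟨1, by norm_num, by rw [e, pow_one]⟩
        · exact ⟨2, by norm_num, by rw [e, pow_two]⟩
      obtain ⟨k, hk, e⟩ := hc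
      refine hne (n := u ^ ((3 - k) % 3) * v) ((3 - k) % 3 + 2) (by omega) ?_ ?_
      · rw [Subgroup.coe_mul, SubmonoidClass.coe_pow, map_mul, map_pow, hu, hv, m_uvW,
          show ((3 - k) % 3 + 2 + 1) % 3 = (3 - k) % 3 by omega, show ((3 - k) % 3 + 2 + 1) / 3 = 1 by omega,
          pow_one]
      · rw [map_mul, map_pow, e, ← pow_add]
        interval_cases k
        · simp
        · exact h3
        · exact h3
  -- the classification of degree eleven
  have hnotA : ¬ alternatingGroup (↥(normalizer (K.A : Set G)) ⧸ K.H) ≤ ρ.range := by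
    intro h
    haveI : Nontrivial (↥(normalizer (K.A : Set G)) ⧸ K.H) := Fintype.one_lt_card_iff_nontrivial.1 (by omega)
    have h1 := card_dvd_of_le h
    rw [nat_card_alternatingGroup, Nat.card_eq_fintype_card, hα] at h1
    have h2 := Nat.le_of_dvd (by norm_num) (h1.trans hdvd)
    norm_num [Nat.factorial] at h2
  rcases CfsgLib.Perm.DegreeEleven.main hα ρ.range hns hnotA with ⟨h4, hsharp⟩ | ⟨e⟩
  · have hM : Cfsg.IsM11 ↥ρ.range :=
      CfsgLib.Perm.Induced.sharp_four_isM11 hα h4 (CfsgLib.Perm.Induced.triv_of_sharp hsharp)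
    obtain ⟨e⟩ := CfsgLib.Recog.OrderM11.iso_of_isM11 hM
      (H := ↥Cfsg.Spor.M11) ⟨CfsgLib.Golay.isSimple_sporM11, CfsgLib.Golay.card_sporM11⟩
    have hk : K.A.subgroupOf (normalizer (K.A : Set G)) = ρ.ker := by
      refine eq_of_le_of_card_ge (hker ▸ K.A_le_core) ?_
      rw [hA243]
      rw [hM.2] at hprod
      omega
    exact ⟨((QuotientGroup.quotientMulEquivOfEq hk).trans (QuotientGroup.quotientKerEquivRange ρ)).trans e⟩
  · exfalso
    obtain ⟨e⟩ := e
    rw [card_of_equiv_psl e] at hnine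
    norm_num at hnine

end Ctx

end CfsgLib.InvChar.SuzM11
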