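import Cfsg.Agent.Lib.InvChar.SuzM11.Normalise

/-!
The elementary abelian group `A` of order `3⁵` above the group of order `81` of the model, its twenty-two
conjugates of `y` and the order of its normaliser.
-/

set_option autoImplicit false
set_option maxRecDepth 100000
set_option linter.unusedSectionVars false
set_option synthInstance.maxSize 4096
set_option synthInstance.maxHeartbeats 200000

namespace CfsgLib.InvChar.SuzM11

open CfsgLib.U43 CfsgLib.InvChar.Coset CfsgLib.KnownA.U4ThreeSchur Subgroup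
open CfsgLib.InvChar.SuzY CfsgLib.InvChar.SuzType CfsgLib.Invol

attribute [local irreducible] same act bW expW tgtW uW vW uvW sInv tThree

/-- What the local analysis supplies. -/
structure Ctx {G : Type*} [Group G] (z : G) (Q : Subgroup G) (φ : G → V) (y y2 y3 : G)
    (π : ↥(centralizer ({y} : Set G)) →* GP) : Prop where
  T : Std z Q φ y y2 y3
  hfus : ∃ g : G, g * z * g⁻¹ ∈ Q ∧ g * z * g⁻¹ ≠ z
  surj : Function.Surjective π
  ker : ∀ g : ↥(centralizer ({y} : Set G)), π g = 1 ↔ (g : G) ∈ zpowers y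
  map2 : ∀ h : y2 ∈ centralizer ({y} : Set G), π ⟨y2, h⟩ = m (bW 0)
  map3 : ∀ h : y3 ∈ centralizer ({y} : Set G), π ⟨y3, h⟩ = m (bW 1) ∨ π ⟨y3, h⟩ = (m (bW 1))⁻¹

variable {G : Type*} [Group G] [Finite G] {z : G} {Q : Subgroup G} {φ : G → V} {y y2 y3 : G}
  {π : ↥(centralizer ({y} : Set G)) →* GP}

namespace Ctx

variable (K : Ctx z Q φ y y2 y3 π)

/-- The group of order `3⁵`. -/
noncomputable def A (_K : Ctx z Q φ y y2 y3 π) : Subgroup G :=
  (Asub.comap π).map (centralizer ({y} : Set G)).subtype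

include K

theorem mem_A {g : G} : g ∈ K.A ↔ ∃ h : g ∈ centralizer ({y} : Set G), π ⟨g, h⟩ ∈ Asub := by
  constructor
  · rintro ⟨a, ha, rfl⟩
    exact ⟨a.2, ha⟩
  · rintro ⟨h, hg⟩
    exact ⟨⟨g, h⟩, hg, rfl⟩

theorem y_mem_A : y ∈ K.A := (K.mem_A).2 ⟨mem_centralizer_singleton_iff.2 rfl, by
  rw [(K.ker _).2 (mem_zpowers y)]; exact one_mem _⟩

theorem y2C : y2 ∈ centralizer ({y} : Set G) := mem_centralizer_singleton_iff.2 K.T.c12.symm

theorem y3C : y3 ∈ centralizer ({y} : Set G) := mem_centralizer_singleton_iff.2 K.T.c13.symm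

theorem comm_zpowers {g k : G} (hg : g ∈ zpowers y) (hk : k ∈ centralizer ({y} : Set G)) : k * g = g * k := by
  obtain ⟨i, rfl⟩ := mem_zpowers_iff.1 hg
  exact ((show Commute k y from mem_centralizer_singleton_iff.1 hk).zpow_right i).eq

/-- Equal images differ by a power of `y`. -/
theorem eq_mul_of_map_eq {a b : ↥(centralizer ({y} : Set G))} (h : π a = π b) :
    ∃ g ∈ zpowers y, (b : G) = a * g :=
  ⟨(a : G)⁻¹ * b, (K.ker (a⁻¹ * b)).1 (by rw [map_mul, map_inv, h, inv_mul_cancel]), (mul_inv_cancel_left _ _).symm⟩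

theorem conj_y2 : IsConj y y2 := by
  obtain ⟨s, -, h, -, -⟩ := Std.exists_swap K.T
  exact isConj_iff.2 ⟨s, h⟩

theorem conj_y_inv : IsConj y y⁻¹ := by
  obtain ⟨t, -, -, ht⟩ := exists_lift K.T.S good_rot.2.2.2.1 inv_rot.1 K.T.h1 (K.T.h1.mul K.T.S K.T.h1 rfl)
  exact isConj_iff.2 ⟨t, by rw [ht, eq_inv_iff_mul_eq_one]; exact K.T.h1.cube⟩

theorem conj_inv {x : G} (h : IsConj y x) : IsConj y x⁻¹ := by
  obtain ⟨g, hg⟩ := isConj_iff.1 h
  exact K.conj_y_inv.trans (isConj_iff.2 ⟨g, by rw [← hg]; group⟩)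

/-- The only conjugate of `y` over the first basis element is `y2`. -/
theorem eq_y2 {x : ↥(centralizer ({y} : Set G))} (h : π x = m (bW 0)) (hc : IsConj y (x : G)) : (x : G) = y2 := by
  obtain ⟨g, hg, e⟩ := K.eq_mul_of_map_eq (a := ⟨y2, K.y2C⟩) (b := x) (by rw [K.map2, h])
  have := Std.y2_lift K.T K.hfus hg (e ▸ hc)
  rw [e, this, mul_one]

theorem eq_y2_inv {x : ↥(centralizer ({y} : Set G))} (h : π x = (m (bW 0))⁻¹) (hc : IsConj y (x : G)) :
    (x : G) = y2⁻¹ := by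
  rw [← K.eq_y2 (x := x⁻¹) (by rw [map_inv, h, inv_inv]) (K.conj_inv hc)]
  simp

/-- A lift of an element commuting with the first basis element commutes with `y2`. -/
theorem comm_y2 {k : ↥(centralizer ({y} : Set G))} (h : π k * m (bW 0) = m (bW 0) * π k) :
    (k : G) * y2 = y2 * k := by
  have e := K.eq_y2 (x := k * ⟨y2, K.y2C⟩ * k⁻¹) (by rw [map_mul, map_mul, map_inv, K.map2, h, mul_inv_cancel_right])
    (K.conj_y2.trans (isConj_iff.2 ⟨k, rfl⟩))
  exact mul_inv_eq_iff_eq_mul.1 e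

/-- Lifts of the basis elements: conjugates of `y`, central in `A`. -/
theorem exists_basis_lift {i : ℕ} (hi : i < 4) : ∃ x : ↥(centralizer ({y} : Set G)), π x = m (bW i) ∧
    (x : G) * (x : G) * (x : G) = 1 ∧ IsConj y (x : G) ∧ ∀ a ∈ K.A, a * (x : G) = (x : G) * a := by
  obtain ⟨n, hn⟩ := K.surj (m (conjB.getD i []))
  have hx : π (n * ⟨y2, K.y2C⟩ * n⁻¹) = m (bW i) := by
    rw [map_mul, map_mul, map_inv, K.map2, hn, ← m_reverse, ← m_append, ← m_append]
    congr 1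
    simp only [bW, conjB, List.getD_eq_getElem?_getD]
    rfl
  refine ⟨n * ⟨y2, K.y2C⟩ * n⁻¹, hx, cube_conj K.T.h2.cube, K.conj_y2.trans (isConj_iff.2 ⟨n, rfl⟩), ?_⟩
  intro a ha
  obtain ⟨haC, haA⟩ := K.mem_A.1 ha
  have hc := Asub_comm haA (bW_mem hi)
  rw [← hx, map_mul, map_mul, map_inv, K.map2] at hc
  have h2 := K.comm_y2 (k := n⁻¹ * ⟨a, haC⟩ * n) (by
    rw [map_mul, map_mul, map_inv]
    calc (π n)⁻¹ * π ⟨a, haC⟩ * π n * m (bW 0) = (π n)⁻¹ * (π ⟨a, haC⟩ * (π n * m (bW 0) * (π n)⁻¹)) * π n := by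
          group
      _ = (π n)⁻¹ * ((π n * m (bW 0) * (π n)⁻¹) * π ⟨a, haC⟩) * π n := by rw [hc]
      _ = _ := by group)
  simp only [Subgroup.coe_mul, Subgroup.coe_inv] at h2 ⊢
  calc a * ((n : G) * y2 * (n : G)⁻¹) = (n : G) * (((n : G)⁻¹ * a * n) * y2) * (n : G)⁻¹ := by group
    _ = (n : G) * (y2 * ((n : G)⁻¹ * a * n)) * (n : G)⁻¹ := by rw [h2]
    _ = _ := by group

theorem A_le : K.A ≤ centralizer ({y} : Set G) := fun _ ha => (K.mem_A.1 ha).1

theorem A_comm {a b : G} (ha : a ∈ K.A) (hb : b ∈ K.A) : a * b = b * a := by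
  obtain ⟨x0, h0, -, -, c0⟩ := K.exists_basis_lift (i := 0) (by norm_num)
  obtain ⟨x1, h1, -, -, c1⟩ := K.exists_basis_lift (i := 1) (by norm_num)
  obtain ⟨x2, h2, -, -, c2⟩ := K.exists_basis_lift (i := 2) (by norm_num)
  obtain ⟨x3, h3, -, -, c3⟩ := K.exists_basis_lift (i := 3) (by norm_num)
  obtain ⟨hbC, hbA⟩ := K.mem_A.1 hb
  obtain ⟨e, -, he⟩ := exists_exp hbA
  obtain ⟨g, hg, hb'⟩ := K.eq_mul_of_map_eq
    (a := x0 ^ (e % 3) * (x1 ^ (e / 3 % 3) * (x2 ^ (e / 9 % 3) * x3 ^ (e / 27 % 3)))) (b := ⟨b, hbC⟩)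
    (by simp only [map_mul, map_pow, h0, h1, h2, h3]; rw [he, m_expW])
  rw [show b = ((⟨b, hbC⟩ : ↥(centralizer ({y} : Set G))) : G) from rfl, hb']
  simp only [Subgroup.coe_mul, Subgroup.coe_pow]
  exact ((((show Commute a (x0 : G) from c0 a ha).pow_right _).mul_right
    (((show Commute a (x1 : G) from c1 a ha).pow_right _).mul_right
      (((show Commute a (x2 : G) from c2 a ha).pow_right _).mul_right
        ((show Commute a (x3 : G) from c3 a ha).pow_right _)))).mul_right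
    (show Commute a g from K.comm_zpowers hg (K.A_le ha))).eq

theorem A_cube {a : G} (ha : a ∈ K.A) : a * a * a = 1 := by
  have hmem : ∀ {x : ↥(centralizer ({y} : Set G))}, π x ∈ Asub → (x : G) ∈ K.A := fun h => K.mem_A.2 ⟨_, h⟩
  obtain ⟨x0, h0, q0, -, c0⟩ := K.exists_basis_lift (i := 0) (by norm_num)
  obtain ⟨x1, h1, q1, -, c1⟩ := K.exists_basis_lift (i := 1) (by norm_num)
  obtain ⟨x2, h2, q2, -, c2⟩ := K.exists_basis_lift (i := 2) (by norm_num)
  obtain ⟨x3, h3, q3, -, c3⟩ := K.exists_basis_lift (i := 3) (by norm_num)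
  obtain ⟨haC, haA⟩ := K.mem_A.1 ha
  obtain ⟨e, -, he⟩ := exists_exp haA
  obtain ⟨g, hg, ha'⟩ := K.eq_mul_of_map_eq
    (a := x0 ^ (e % 3) * (x1 ^ (e / 3 % 3) * (x2 ^ (e / 9 % 3) * x3 ^ (e / 27 % 3)))) (b := ⟨a, haC⟩)
    (by simp only [map_mul, map_pow, h0, h1, h2, h3]; rw [he, m_expW])
  have hcube : ∀ {u v : G}, u ∈ K.A → v ∈ K.A → u ^ 3 = 1 → v ^ 3 = 1 → (u * v) ^ 3 = 1 := fun hu hv e1 e2 => by
    rw [(show Commute _ _ from K.A_comm hu hv).mul_pow, e1, e2, one_mul]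
  have hp : ∀ {x : G} (n : ℕ), x * x * x = 1 → (x ^ n) ^ 3 = 1 := fun {x} n hx => by
    rw [← pow_mul, mul_comm, pow_mul, pow_succ, pow_two, hx, one_pow]
  have m0 := hmem (x := x0) (h0 ▸ bW_mem (by norm_num))
  have m1 := hmem (x := x1) (h1 ▸ bW_mem (by norm_num))
  have m2 := hmem (x := x2) (h2 ▸ bW_mem (by norm_num))
  have m3 := hmem (x := x3) (h3 ▸ bW_mem (by norm_num))
  have hgA : g ∈ K.A := zpowers_le.2 K.y_mem_A hg
  have hg3 : g ^ 3 = 1 := by
    obtain ⟨i, rfl⟩ := mem_zpowers_iff.1 hg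
    rw [← zpow_natCast, ← zpow_mul, mul_comm, zpow_mul, zpow_natCast, pow_succ, pow_two, K.T.h1.cube, one_zpow]
  rw [← pow_two, ← pow_succ, show a = ((⟨a, haC⟩ : ↥(centralizer ({y} : Set G))) : G) from rfl, ha']
  simp only [Subgroup.coe_mul, Subgroup.coe_pow]
  exact hcube (mul_mem (pow_mem m0 _) (mul_mem (pow_mem m1 _) (mul_mem (pow_mem m2 _) (pow_mem m3 _)))) hgA
    (hcube (pow_mem m0 _) (mul_mem (pow_mem m1 _) (mul_mem (pow_mem m2 _) (pow_mem m3 _))) (hp _ q0)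
      (hcube (pow_mem m1 _) (mul_mem (pow_mem m2 _) (pow_mem m3 _)) (hp _ q1)
        (hcube (pow_mem m2 _) (pow_mem m3 _) (hp _ q2) (hp _ q3)))) hg3

theorem card_comap (H : Subgroup GP) :
    Nat.card ↥((H.comap π).map (centralizer ({y} : Set G)).subtype) = 3 * Nat.card ↥H := by
  rw [card_map_of_injective (centralizer ({y} : Set G)).subtype_injective]
  let f : ↥(H.comap π) →* ↥H := (π.comp (H.comap π).subtype).codRestrict H fun x => x.2
  have hf : Function.Surjective f := fun ⟨h, hh⟩ => by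
    obtain ⟨x, rfl⟩ := K.surj h
    exact ⟨⟨x, hh⟩, rfl⟩
  have hk : Nat.card ↥f.ker = 3 := by
    rw [← Std.y_ord K.T, ← Nat.card_zpowers]
    refine Nat.card_congr (Equiv.ofBijective (fun x : ↥f.ker => (⟨(((x : ↥(H.comap π)) :
      ↥(centralizer ({y} : Set G))) : G), (K.ker _).1 (congrArg Subtype.val x.2)⟩ : ↥(zpowers y)))
      ⟨fun a b e => Subtype.ext (Subtype.ext (Subtype.ext (congrArg Subtype.val e :))), fun ⟨g, hg⟩ => ?_⟩)
    have hgC : g ∈ centralizer ({y} : Set G) := zpowers_le.2 (mem_centralizer_singleton_iff.2 rfl) hg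
    have h1 : π ⟨g, hgC⟩ = 1 := (K.ker _).2 hg
    exact ⟨⟨⟨⟨g, hgC⟩, by show π _ ∈ H; rw [h1]; exact one_mem _⟩, Subtype.ext h1⟩, rfl⟩
  rw [card_eq_card_quotient_mul_card_subgroup f.ker, hk,
    Nat.card_congr (QuotientGroup.quotientKerEquivOfSurjective f hf).toEquiv, mul_comm]

theorem card_A : Nat.card ↥K.A = 243 := by rw [A, K.card_comap, card_Asub]

theorem y2_mem_A : y2 ∈ K.A := K.mem_A.2 ⟨K.y2C, by rw [K.map2]; exact bW_mem (by norm_num)⟩

theorem y3_mem_A : y3 ∈ K.A := K.mem_A.2 ⟨K.y3C, by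
  rcases K.map3 K.y3C with h | h <;> rw [h]
  exacts [bW_mem (by norm_num), inv_mem (bW_mem (by norm_num))]⟩

theorem centralizer_A : centralizer (K.A : Set G) = K.A := by
  refine le_antisymm (fun x hx => ?_) fun a ha => mem_centralizer_iff.2 fun b hb => K.A_comm hb ha
  have hxC : x ∈ centralizer ({y} : Set G) :=
    mem_centralizer_singleton_iff.2 (mem_centralizer_iff.1 hx y K.y_mem_A).symm
  refine K.mem_A.2 ⟨hxC, ?_⟩
  rw [← centralizer_Asub]
  refine mem_centralizer_iff.2 fun b hb => ?_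
  obtain ⟨b', rfl⟩ := K.surj b
  rw [← map_mul, ← map_mul]
  exact congrArg π (Subtype.ext (mem_centralizer_iff.1 hx _ (K.mem_A.2 ⟨b'.2, hb⟩)))

/-- `A` consists of the elements of cube one centralising `y`, `y2`, `y3`. -/
theorem mem_A_iff {g : G} :
    g ∈ K.A ↔ g * y = y * g ∧ g * y2 = y2 * g ∧ g * y3 = y3 * g ∧ g * g * g = 1 := by
  refine ⟨fun h => ⟨K.A_comm h K.y_mem_A, K.A_comm h K.y2_mem_A, K.A_comm h K.y3_mem_A, K.A_cube h⟩, ?_⟩
  rintro ⟨h1, h2, h3, h4⟩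
  refine K.mem_A.2 ⟨mem_centralizer_singleton_iff.2 h1, mem_Asub_of_cube ?_ ?_ ?_⟩
  · rw [← K.map2 K.y2C, ← map_mul, ← map_mul]; exact congrArg π (Subtype.ext h2)
  · have h3' : π ⟨g, mem_centralizer_singleton_iff.2 h1⟩ * π ⟨y3, K.y3C⟩ =
        π ⟨y3, K.y3C⟩ * π ⟨g, mem_centralizer_singleton_iff.2 h1⟩ := by
      rw [← map_mul, ← map_mul]; exact congrArg π (Subtype.ext h3)
    rcases K.map3 K.y3C with e | e <;> rw [e] at h3'
    · exact h3'
    · simpa using (show Commute _ (m (bW 1))⁻¹ from h3').inv_right.eq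
  · rw [← map_mul, ← map_mul, ← map_one π]; exact congrArg π (Subtype.ext h4)

omit K

theorem mem_normalizer_of_le {A : Subgroup G} {g : G} (h : ∀ a ∈ A, g * a * g⁻¹ ∈ A) :
    g ∈ normalizer (A : Set G) := by
  have hle : A.map (MulAut.conj g).toMonoidHom ≤ A := by rintro _ ⟨a, ha, rfl⟩; exact h a ha
  have heq := eq_of_le_of_card_ge hle (by rw [card_map_of_injective (MulEquiv.injective _)])
  refine mem_normalizer_iff.2 fun a => ⟨h a, fun ha => ?_⟩
  rw [← heq] at ha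
  obtain ⟨b, hb, e⟩ := ha
  exact (mul_left_cancel (mul_right_cancel e) : b = a) ▸ hb

include K

/-- An element exchanging `y` and `y2` in the normaliser of `A`. -/
theorem exists_swap : ∃ s ∈ normalizer (K.A : Set G), s * y * s⁻¹ = y2 ∧ s * y2 * s⁻¹ = y := by
  obtain ⟨s, -, h1, h2, h3⟩ := Std.exists_swap K.T
  refine ⟨s, mem_normalizer_of_le fun a ha => ?_, h1, h2⟩
  obtain ⟨a1, a2, a3, a4⟩ := K.mem_A_iff.1 ha
  have key : ∀ {u v : G}, a * u = u * a → s * u * s⁻¹ = v → s * a * s⁻¹ * v = v * (s * a * s⁻¹) :=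
    fun {u v} hu e => by
      rw [← e, show s * a * s⁻¹ * (s * u * s⁻¹) = s * (a * u) * s⁻¹ by group, hu]; group
  exact K.mem_A_iff.2 ⟨key a2 h2, key a1 h1, key a3 h3, cube_conj a4⟩

theorem mem_normalizer_iff' {g : ↥(centralizer ({y} : Set G))} :
    (g : G) ∈ normalizer (K.A : Set G) ↔ π g ∈ normalizer (Asub : Set GP) := by
  constructor
  · intro h
    refine mem_normalizer_iff.2 fun b => ?_
    obtain ⟨b, rfl⟩ := K.surj b
    rw [← map_inv, ← map_mul, ← map_mul]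
    constructor <;> intro hb
    · obtain ⟨_, h'⟩ := K.mem_A.1 ((mem_normalizer_iff.1 h _).1 (K.mem_A.2 ⟨b.2, hb⟩))
      exact h'
    · obtain ⟨_, h'⟩ := K.mem_A.1 ((mem_normalizer_iff.1 h (b : G)).2 (K.mem_A.2 ⟨(g * b * g⁻¹).2, hb⟩))
      exact h'
  · intro h
    refine mem_normalizer_of_le fun a ha => ?_
    obtain ⟨haC, haA⟩ := K.mem_A.1 ha
    refine K.mem_A.2 ⟨mul_mem (mul_mem g.2 haC) (inv_mem g.2), ?_⟩
    rw [show (⟨(g : G) * a * (g : G)⁻¹, mul_mem (mul_mem g.2 haC) (inv_mem g.2)⟩ :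
      ↥(centralizer ({y} : Set G))) = g * ⟨a, haC⟩ * g⁻¹ from Subtype.ext rfl, map_mul, map_mul, map_inv]
    exact (mem_normalizer_iff.1 h _).1 haA

theorem card_cent_normalizer :
    Nat.card ↥(centralizer ({y} : Set G) ⊓ normalizer (K.A : Set G)) = 87480 := by
  rw [show centralizer ({y} : Set G) ⊓ normalizer (K.A : Set G) =
    ((normalizer (Asub : Set GP)).comap π).map (centralizer ({y} : Set G)).subtype by
      ext g
      constructor
      · rintro ⟨h1, h2⟩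
        exact ⟨⟨g, h1⟩, (K.mem_normalizer_iff' (g := ⟨g, h1⟩)).1 h2, rfl⟩
      · rintro ⟨g, hg, rfl⟩
        exact ⟨g.2, K.mem_normalizer_iff'.2 hg⟩, K.card_comap, card_normalizer]

/-- An element of the normaliser of `A` inverting `y`. -/
theorem exists_inverting_y : ∃ g ∈ normalizer (K.A : Set G), g * y * g⁻¹ = y⁻¹ := by
  obtain ⟨s, hs, h1, h2⟩ := K.exists_swap
  obtain ⟨w, hw, hwe⟩ := root_inverted
  obtain ⟨n, rfl⟩ := K.surj w
  have e := K.eq_y2_inv (x := n * ⟨y2, K.y2C⟩ * n⁻¹) (by rw [map_mul, map_mul, map_inv, K.map2, hwe])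
    (K.conj_y2.trans (isConj_iff.2 ⟨n, rfl⟩))
  refine ⟨s * n * s, mul_mem (mul_mem hs (K.mem_normalizer_iff'.2 hw)) hs, ?_⟩
  simp only [Subgroup.coe_mul, Subgroup.coe_inv] at e
  calc s * n * s * y * (s * n * s)⁻¹ = s * ((n : G) * (s * y * s⁻¹) * (n : G)⁻¹) * s⁻¹ := by group
    _ = (s * y2 * s⁻¹)⁻¹ := by rw [h1, e]; group
    _ = y⁻¹ := by rw [h2]

theorem y_ne_inv : y ≠ y⁻¹ := fun e => by
  have h := eq_inv_iff_mul_eq_one.1 e
  have h3 := K.T.h1.cube
  rw [h, one_mul] at h3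
  have := Std.y_ord K.T
  rw [h3, orderOf_one] at this
  norm_num at this

/-- Nontrivial conjugates of `y` in `A` have root images. -/
theorem root_of_conj {x : ↥(centralizer ({y} : Set G))} {e : ℕ} (he : e < 80) (hx : π x = m (expW (e + 1)))
    (hc : IsConj y (x : G)) : (classTable.getD e (0, [])).1 < 2 := by
  obtain ⟨hk, g, -, hge⟩ := class_exp he
  obtain ⟨n, rfl⟩ := K.surj g
  generalize (classTable.getD e (0, [])).1 = k at hk hge ⊢
  by_contra hk2
  rw [← hx, ← map_inv, ← map_mul, ← map_mul] at hge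
  obtain ⟨v, hv⟩ : ∃ v, v = n * x * n⁻¹ := ⟨_, rfl⟩
  rw [← hv] at hge
  have hcv : IsConj y (v : G) := hc.trans (isConj_iff.2 ⟨n, by rw [hv]; rfl⟩)
  -- inverses reduce to the targets `2` and `4`
  obtain ⟨v', hcv', hv'⟩ : ∃ v' : ↥(centralizer ({y} : Set G)), IsConj y (v' : G) ∧
      (π v' = m (bW 0) * m (bW 1) ∨ π v' = m (bW 0) * (m (bW 1))⁻¹) := by
    interval_cases k
    · exact ⟨v, hcv, Or.inl (by rw [hge, ← m_append]; unfold tgtW; rfl)⟩
    · refine ⟨v⁻¹, K.conj_inv hcv, Or.inl ?_⟩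
      rw [map_inv, hge, show tgtW 3 = (bW 0 ++ bW 1).reverse by unfold tgtW; rfl, m_reverse, inv_inv, m_append]
    · refine ⟨v, hcv, Or.inr ?_⟩
      rw [hge, show tgtW 4 = bW 0 ++ (bW 1).reverse by unfold tgtW; rfl, m_append, m_reverse]
    · refine ⟨v⁻¹, K.conj_inv hcv, Or.inr ?_⟩
      rw [map_inv, hge, show tgtW 5 = (bW 0 ++ (bW 1).reverse).reverse by unfold tgtW; rfl, m_reverse, inv_inv,
        m_append, m_reverse]
  -- it is a mixed product
  have h3i : y3⁻¹ = y3 * y3 := inv_eq_of_mul_eq_one_right (by rw [← mul_assoc]; exact K.T.h3.cube)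
  obtain ⟨c, hcC, hc3, hπc⟩ : ∃ (c : G) (hcC : c ∈ centralizer ({y} : Set G)),
      (c = y3 ∨ c = y3 * y3) ∧ π v' = m (bW 0) * π ⟨c, hcC⟩ := by
    rcases K.map3 K.y3C with e3 | e3 <;> rcases hv' with e4 | e4
    · exact ⟨y3, K.y3C, Or.inl rfl, by rw [e4, e3]⟩
    · refine ⟨y3⁻¹, inv_mem K.y3C, Or.inr h3i, ?_⟩
      rw [show (⟨y3⁻¹, inv_mem K.y3C⟩ : ↥(centralizer ({y} : Set G))) = ⟨y3, K.y3C⟩⁻¹ from rfl, map_inv, e3, e4]
    · refine ⟨y3⁻¹, inv_mem K.y3C, Or.inr h3i, ?_⟩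
      rw [show (⟨y3⁻¹, inv_mem K.y3C⟩ : ↥(centralizer ({y} : Set G))) = ⟨y3, K.y3C⟩⁻¹ from rfl, map_inv, e3,
        inv_inv, e4]
    · exact ⟨y3, K.y3C, Or.inl rfl, by rw [e4, e3]⟩
  obtain ⟨g', hg', e⟩ := K.eq_mul_of_map_eq (a := ⟨y2, K.y2C⟩ * ⟨c, hcC⟩) (b := v')
    (by rw [map_mul, K.map2, hπc])
  have e' : (v' : G) = g' * (y2 * c) := by
    rw [e]; exact K.comm_zpowers hg' (mul_mem K.y2C hcC)
  exact Std.mixed_not_conj K.T K.hfus hg' (Or.inl rfl) hc3 (e' ▸ hcv')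

/-- All conjugates of `y` in `A` are conjugate in the normaliser of `A`. -/
theorem transitive {a : G} (ha : a ∈ K.A) (hc : IsConj y a) :
    ∃ g ∈ normalizer (K.A : Set G), g * y * g⁻¹ = a := by
  obtain ⟨haC, haA⟩ := K.mem_A.1 ha
  obtain ⟨e, he, heq⟩ := exists_exp haA
  obtain ⟨t, ht, hty⟩ := K.exists_inverting_y
  rcases Nat.eq_zero_or_pos e with rfl | hpos
  · have h1 : π ⟨a, haC⟩ = 1 := heq.trans (by rw [m_expW]; simp)
    rcases mem_zpowers_three K.T.h1.cube ((K.ker _).1 h1) with h | h | h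
    · have h2 := orderOf_eq_of_isConj hc
      rw [show a = 1 from h, orderOf_one, Std.y_ord K.T] at h2
      norm_num at h2
    · exact ⟨1, one_mem _, by simpa using h.symm⟩
    · refine ⟨t, ht, ?_⟩
      rw [hty, show a = y * y from h]
      exact inv_eq_of_mul_eq_one_right (by rw [← mul_assoc]; exact K.T.h1.cube)
  obtain ⟨e', rfl⟩ : ∃ e', e = e' + 1 := ⟨e - 1, by omega⟩
  have hk2 := K.root_of_conj (x := ⟨a, haC⟩) (by omega) heq hc
  obtain ⟨-, g, hgN, hge⟩ := class_exp (e := e') (by omega)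
  obtain ⟨n, rfl⟩ := K.surj g
  generalize (classTable.getD e' (0, [])).1 = k at hk2 hge
  rw [← heq, ← map_inv, ← map_mul, ← map_mul] at hge
  have hcv : IsConj y ((n * ⟨a, haC⟩ * n⁻¹ : ↥(centralizer ({y} : Set G))) : G) :=
    hc.trans (isConj_iff.2 ⟨n, rfl⟩)
  obtain ⟨s, hs, h1, h2⟩ := K.exists_swap
  have hnN : (n : G) ∈ normalizer (K.A : Set G) := K.mem_normalizer_iff'.2 hgN
  interval_cases k
  · have e0 := K.eq_y2 (hge.trans (by unfold tgtW; rfl)) hcv
    refine ⟨(n : G)⁻¹ * s, mul_mem (inv_mem hnN) hs, ?_⟩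
    simp only [Subgroup.coe_mul, Subgroup.coe_inv] at e0
    calc (n : G)⁻¹ * s * y * ((n : G)⁻¹ * s)⁻¹ = (n : G)⁻¹ * (s * y * s⁻¹) * n := by group
      _ = a := by rw [h1, ← e0]; group
  · have e0 := K.eq_y2_inv (hge.trans (by rw [← m_reverse]; unfold tgtW; rfl)) hcv
    refine ⟨(n : G)⁻¹ * s * t, mul_mem (mul_mem (inv_mem hnN) hs) ht, ?_⟩
    simp only [Subgroup.coe_mul, Subgroup.coe_inv] at e0
    calc (n : G)⁻¹ * s * t * y * ((n : G)⁻¹ * s * t)⁻¹ = (n : G)⁻¹ * (s * (t * y * t⁻¹) * s⁻¹) * n := by group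
      _ = (n : G)⁻¹ * (s * y * s⁻¹)⁻¹ * n := by rw [hty]; group
      _ = a := by rw [h1, ← e0]; group

theorem exists_root_lift {e : ℕ} (he : e < 80) (hk : (classTable.getD e (0, [])).1 < 2) :
    ∃ a ∈ K.A, IsConj y a ∧ ∃ h : a ∈ centralizer ({y} : Set G), π ⟨a, h⟩ = m (expW (e + 1)) := by
  obtain ⟨-, g, -, hge⟩ := class_exp he
  obtain ⟨n, rfl⟩ := K.surj g
  generalize (classTable.getD e (0, [])).1 = k at hk hge
  obtain ⟨v, hv, hvc⟩ : ∃ v : ↥(centralizer ({y} : Set G)), π v = m (tgtW k) ∧ IsConj y (v : G) := by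
    interval_cases k
    · exact ⟨⟨y2, K.y2C⟩, (K.map2 _).trans (by unfold tgtW; rfl), K.conj_y2⟩
    · exact ⟨⟨y2, K.y2C⟩⁻¹, by rw [map_inv, K.map2, ← m_reverse]; unfold tgtW; rfl, K.conj_inv K.conj_y2⟩
  have hπ : π (n⁻¹ * v * n) = m (expW (e + 1)) := by rw [map_mul, map_mul, map_inv, hv, ← hge]; group
  refine ⟨((n⁻¹ * v * n : ↥(centralizer ({y} : Set G))) : G), K.mem_A.2 ⟨Subtype.coe_prop _, ?_⟩,
    hvc.trans (isConj_iff.2 ⟨(n : G)⁻¹, by simp⟩), Subtype.coe_prop _, hπ⟩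
  rw [hπ]; exact expW_mem _

omit K in
theorem expW_inj {e e' : ℕ} (he : e < 81) (he' : e' < 81) (h : m (expW e) = m (expW e')) : e = e' := by
  have h2 := chain_ok.1
  rw [chainOK, Bool.and_eq_true, decide_eq_true_iff] at h2
  have h3 : act (expW e) 0 = act (expW e') 0 := by
    rw [show (0 : ℕ) = ((0 : Fin 112) : ℕ) from rfl, ← m_val, ← m_val, h]
  have := List.nodup_iff_injective_get.1 h2.2 (a₁ := ⟨e, by simpa using he⟩) (a₂ := ⟨e', by simpa using he'⟩)
    (by simpa using h3)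
  simpa [Fin.ext_iff] using this

/-- Two lifts of one element that are conjugate to `y` are equal. -/
theorem lift_unique {e : ℕ} (he : e < 80) {a b : ↥(centralizer ({y} : Set G))} (ha : π a = m (expW (e + 1)))
    (hb : π b = m (expW (e + 1))) (hca : IsConj y (a : G)) (hcb : IsConj y (b : G)) : (a : G) = b := by
  have hk := K.root_of_conj he ha hca
  obtain ⟨-, g, -, hge⟩ := class_exp he
  obtain ⟨n, rfl⟩ := K.surj g
  generalize (classTable.getD e (0, [])).1 = k at hk hge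
  have hA : π (n * a * n⁻¹) = m (tgtW k) := by rw [map_mul, map_mul, map_inv, ha, hge]
  have hB : π (n * b * n⁻¹) = m (tgtW k) := by rw [map_mul, map_mul, map_inv, hb, hge]
  have cA : IsConj y ((n * a * n⁻¹ : ↥(centralizer ({y} : Set G))) : G) := hca.trans (isConj_iff.2 ⟨n, rfl⟩)
  have cB : IsConj y ((n * b * n⁻¹ : ↥(centralizer ({y} : Set G))) : G) := hcb.trans (isConj_iff.2 ⟨n, rfl⟩)
  have h : ((n * a * n⁻¹ : ↥(centralizer ({y} : Set G))) : G) = (n * b * n⁻¹ : ↥(centralizer ({y} : Set G))) := by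
    interval_cases k
    · rw [K.eq_y2 (hA.trans (by unfold tgtW; rfl)) cA, K.eq_y2 (hB.trans (by unfold tgtW; rfl)) cB]
    · rw [K.eq_y2_inv (hA.trans (by rw [← m_reverse]; unfold tgtW; rfl)) cA,
        K.eq_y2_inv (hB.trans (by rw [← m_reverse]; unfold tgtW; rfl)) cB]
  simp only [Subgroup.coe_mul, Subgroup.coe_inv] at h
  exact mul_left_cancel (mul_right_cancel h)

/-- `y` has twenty-two conjugates in `A`. -/
theorem card_conj : Nat.card {a : G // a ∈ K.A ∧ IsConj y a} = 22 := by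
  classical
  let R := {e : Fin 80 // (classTable.getD (e : ℕ) (0, [])).1 < 2}
  have hR : Fintype.card R = 20 := by
    rw [Fintype.card_subtype]
    exact (by decide +kernel :
      (Finset.univ.filter fun e : Fin 80 => (classTable.getD (e : ℕ) (0, [])).1 < 2).card = 20)
  let pick : R → {a : G // a ∈ K.A ∧ IsConj y a} := fun e =>
    ⟨Classical.choose (K.exists_root_lift e.1.2 e.2),
      (Classical.choose_spec (K.exists_root_lift e.1.2 e.2)).1,
      (Classical.choose_spec (K.exists_root_lift e.1.2 e.2)).2.1⟩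
  have pick_spec : ∀ e : R, ∃ h : ((pick e : {a : G // a ∈ K.A ∧ IsConj y a}) : G) ∈ centralizer ({y} : Set G),
      π ⟨_, h⟩ = m (expW ((e.1 : ℕ) + 1)) := fun e =>
    (Classical.choose_spec (K.exists_root_lift e.1.2 e.2)).2.2
  let f : Bool ⊕ R → {a : G // a ∈ K.A ∧ IsConj y a} := Sum.elim
    (fun b => bif b then ⟨y, K.y_mem_A, IsConj.refl y⟩ else ⟨y⁻¹, inv_mem K.y_mem_A, K.conj_y_inv⟩) pick
  have hbase : ∀ b : Bool, (f (Sum.inl b) : G) ∈ zpowers y := fun b => by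
    cases b
    exacts [inv_mem (mem_zpowers y), mem_zpowers y]
  have hpick : ∀ e : R, (pick e : G) ∉ zpowers y := fun e h => by
    obtain ⟨hC, he⟩ := pick_spec e
    rw [(K.ker _).2 h] at he
    have := expW_inj (e := 0) (e' := (e.1 : ℕ) + 1) (by norm_num) (by omega) (by rw [← he, m_expW]; simp)
    omega
  have hbij : Function.Bijective f := by
    constructor
    · rintro (b | e) (b' | e') h
      · have h' := congrArg Subtype.val h
        cases b <;> cases b'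
        · rfl
        · exact absurd h'.symm K.y_ne_inv
        · exact absurd h' K.y_ne_inv
        · rfl
      · exact absurd ((congrArg Subtype.val h :) ▸ hbase b) (hpick e')
      · exact absurd ((congrArg Subtype.val h :) ▸ hbase b') (hpick e)
      · have h' : (pick e : G) = pick e' := congrArg Subtype.val h
        obtain ⟨hC, he⟩ := pick_spec e
        obtain ⟨hC', he'⟩ := pick_spec e'
        rw [show (⟨(pick e : G), hC⟩ : ↥(centralizer ({y} : Set G))) = ⟨(pick e' : G), hC'⟩ from Subtype.ext h',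
          he'] at he
        have := expW_inj (by omega) (by omega) he
        exact congrArg Sum.inr (Subtype.ext (Fin.ext (by omega)))
    · rintro ⟨a, ha, hc⟩
      obtain ⟨haC, haA⟩ := K.mem_A.1 ha
      obtain ⟨e, he, heq⟩ := exists_exp haA
      rcases Nat.eq_zero_or_pos e with rfl | hpos
      · rcases mem_zpowers_three K.T.h1.cube ((K.ker _).1 (heq.trans (by rw [m_expW]; simp))) with h | h | h
        · have h2 := orderOf_eq_of_isConj hc
          rw [show a = 1 from h, orderOf_one, Std.y_ord K.T] at h2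
          norm_num at h2
        · exact ⟨Sum.inl true, Subtype.ext h.symm⟩
        · refine ⟨Sum.inl false, Subtype.ext ?_⟩
          show y⁻¹ = a
          rw [show a = y * y from h]
          exact inv_eq_of_mul_eq_one_right (by rw [← mul_assoc]; exact K.T.h1.cube)
      obtain ⟨e', rfl⟩ : ∃ e', e = e' + 1 := ⟨e - 1, by omega⟩
      have he80 : e' < 80 := by omega
      refine ⟨Sum.inr ⟨⟨e', he80⟩, K.root_of_conj he80 heq hc⟩, Subtype.ext ?_⟩
      obtain ⟨hC, hp⟩ := pick_spec ⟨⟨e', he80⟩, K.root_of_conj he80 heq hc⟩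
      exact K.lift_unique he80 (a := ⟨_, hC⟩) (b := ⟨a, haC⟩) hp heq (pick _).2.2 hc
  rw [← Nat.card_congr (Equiv.ofBijective f hbij), Nat.card_sum, Nat.card_eq_fintype_card,
    Nat.card_eq_fintype_card, hR, Fintype.card_bool]

/-- The order of the normaliser of `A`. -/
theorem card_normalizer_A : Nat.card ↥(normalizer (K.A : Set G)) = 1924560 := by
  set N := normalizer (K.A : Set G) with hN
  have hyN : y ∈ N := le_normalizer K.y_mem_A
  have h := card_class_mul_card_centralizer (⟨y, hyN⟩ : ↥N)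
  have h1 : Nat.card {t : ↥N // IsConj (⟨y, hyN⟩ : ↥N) t} = 22 := by
    rw [← K.card_conj]
    refine Nat.card_congr (Equiv.ofBijective (fun t => ⟨((t.1 : ↥N) : G), ?_⟩)
      ⟨fun a b e => Subtype.ext (Subtype.ext (congrArg Subtype.val e :)), fun ⟨a, ha, hc⟩ => ?_⟩)
    · obtain ⟨g, hg⟩ := isConj_iff.1 t.2
      have hg' : (g : G) * y * (g : G)⁻¹ = (t.1 : G) := congrArg Subtype.val hg
      exact ⟨hg' ▸ (mem_normalizer_iff.1 g.2 y).1 K.y_mem_A, isConj_iff.2 ⟨g, hg'⟩⟩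
    · obtain ⟨g, hg, e⟩ := K.transitive ha hc
      exact ⟨⟨⟨a, le_normalizer ha⟩, isConj_iff.2 ⟨⟨g, hg⟩, Subtype.ext e⟩⟩, rfl⟩
  have h2 : Nat.card ↥(centralizer ({(⟨y, hyN⟩ : ↥N)} : Set ↥N)) = 87480 := by
    rw [← K.card_cent_normalizer, ← card_map_of_injective N.subtype_injective]
    congr 2
    ext g
    constructor
    · rintro ⟨v, hv, rfl⟩
      exact ⟨mem_centralizer_singleton_iff.2 (congrArg Subtype.val (mem_centralizer_singleton_iff.1 hv)), v.2⟩
    · rintro ⟨hg, hg'⟩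
      exact ⟨⟨g, hg'⟩, mem_centralizer_singleton_iff.2 (Subtype.ext (mem_centralizer_singleton_iff.1 hg)), rfl⟩
  rw [h1, h2] at h
  omega

end Ctx

end CfsgLib.InvChar.SuzM11
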