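import Cfsg.Agent.Lib.InvChar.SuzY.Quot
import Cfsg.Agent.Lib.U43.Inst

/-!
In a group of Suzuki type no mixed product of the rotations `y`, `y2`, `y3` is conjugate to `y`, and there is an
element exchanging `y` and `y2` that fixes `y3`.
-/

set_option autoImplicit false
set_option linter.unusedSectionVars false
set_option synthInstance.maxSize 4096
set_option synthInstance.maxHeartbeats 200000

namespace CfsgLib.InvChar.SuzM11

open Subgroup CfsgLib.InvChar.SuzY CfsgLib.InvChar.SuzType CfsgLib.Invol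

/-- The number of vectors fixed by a word. -/
def fixCount (w : List (ℕ × ℕ)) : ℕ := (Finset.univ.filter fun v : V => wfun w v = v).card

theorem fix_counts : (∀ a ∈ [r1, r1 ++ r1], ∀ b ∈ [r2, r2 ++ r2], fixCount (a ++ b) ≠ fixCount r1) ∧
    (∀ a ∈ [[], r1, r1 ++ r1], ∀ b ∈ [r2, r2 ++ r2], ∀ c ∈ [r3, r3 ++ r3],
      fixCount (a ++ (b ++ c)) ≠ fixCount r1) ∧
    fixCount (r1 ++ r3) ≠ fixCount r1 ∧
    (∀ a ∈ [[], r1, r1 ++ r1], ∀ b ∈ [r2, r2 ++ r2], ¬ SameMap r3 (a ++ b)) ∧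
    (∀ a ∈ [[], r1, r1 ++ r1], ¬ SameMap r3 a) ∧ (∀ a ∈ [[], r1, r1 ++ r1], ¬ SameMap r2 a) := by
  decide +kernel

theorem swap_three : SameMap (wSwap ++ r3) (r3 ++ wSwap) := by decide +kernel

theorem wfun_nil' (x : V) : wfun [] x = x := rfl

variable {G : Type*} [Group G] [Finite G] {z : G} {Q : Subgroup G} {φ : G → V} {y y2 y3 : G}

namespace Std

variable (T : Std z Q φ y y2 y3) (hfus : ∃ g : G, g * z * g⁻¹ ∈ Q ∧ g * z * g⁻¹ ≠ z)
include T

theorem one_rot : Rot z Q φ [] (1 : G) :=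
  ⟨by rw [one_mul, mul_one], by simp, fun x => T.S.act_of_mem Q.one_mem x⟩

theorem z_mem' : z ∈ centralizer ({y} : Set G) := mem_centralizer_singleton_iff.2 T.h1.comm.symm

theorem y_ord : orderOf y = 3 := orderOf_three T.h1.cube fun e => by
  have := T.h1.act_eq v0
  rw [e, T.S.act_of_mem Q.one_mem, rot_v0.1] at this
  exact absurd this (by decide +kernel)

include hfus

/-- Every involution of the centraliser of `y` is conjugate to `z` in it. -/
theorem invol_conj {u : G} (hu : orderOf u = 2) (huy : u * y = y * u) :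
    ∃ k : G, k * y = y * k ∧ k * u * k⁻¹ = z := by
  obtain ⟨f, hR, hzX, hcard, hF⟩ := T.exists_rels hfus (z_mem' T)
  set C := centralizer ({y} : Set G) with hC
  let π := QuotientGroup.mk' ((zpowers y).subgroupOf C)
  let uC : ↥C := ⟨u, mem_centralizer_singleton_iff.2 huy⟩
  have hodd : ∀ g ∈ zpowers y, g * g = 1 → g = 1 := fun g hg h2 => by
    rcases mem_zpowers_three T.h1.cube hg with e | e | e
    · exact e
    · rw [e] at h2
      have h3 := T.h1.cube
      rw [h2, one_mul] at h3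
      rw [e, h3]
    · rw [e] at h2 ⊢
      rw [show y * y * (y * y) = y * y * y * y by group, T.h1.cube, one_mul] at h2
      rw [h2, one_mul]
  have hu2 : orderOf (π uC) = 2 := by
    refine orderOf_eq_prime (by rw [← map_pow, show uC ^ 2 = 1 from Subtype.ext (by
      rw [pow_two]; exact invol_mul_self hu), map_one]) fun e => ?_
    have h1 : u ∈ zpowers y := mem_subgroupOf.1 ((QuotientGroup.eq_one_iff _).1 e)
    exact invol_ne_one hu (hodd u h1 (invol_mul_self hu))
  obtain ⟨k, hk⟩ := isConj_iff.1 ((U43.card_and_involutions hzX hcard hF hR).2 (π uC) _ hu2 hzX)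
  obtain ⟨k, rfl⟩ := QuotientGroup.mk'_surjective _ k
  rw [← map_inv, ← map_mul, ← map_mul] at hk
  have hg : ((k : G) * u * (k : G)⁻¹)⁻¹ * z ∈ zpowers y := mem_subgroupOf.1 (QuotientGroup.eq.1 hk)
  refine ⟨k, mem_centralizer_singleton_iff.1 k.2, ?_⟩
  set v := (k : G) * u * (k : G)⁻¹ with hv
  have hv2 : v * v = 1 := by
    rw [hv, show (k : G) * u * (k : G)⁻¹ * ((k : G) * u * (k : G)⁻¹) = (k : G) * (u * u) * (k : G)⁻¹ by group,
      invol_mul_self hu]; group
  have hvy : Commute v y := mem_centralizer_singleton_iff.1 (mul_mem (mul_mem k.2 uC.2) (inv_mem k.2))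
  obtain ⟨i, hi⟩ := mem_zpowers_iff.1 hg
  have e1 : z = v * y ^ i := by rw [hi]; group
  have e2 : y ^ i * y ^ i = 1 := by
    have := T.S.zz
    rw [e1, mul_assoc, ← mul_assoc (y ^ i), ← (hvy.zpow_right i).eq, mul_assoc v (y ^ i), ← mul_assoc v v, hv2,
      one_mul] at this
    exact this
  have e3 := hodd (y ^ i) ⟨i, rfl⟩ e2
  rw [e1, e3, mul_one]

/-- An element of `C(z)` inducing a map with another number of fixed vectors is not conjugate to `y`. -/
theorem not_conj {x : G} {w : List (ℕ × ℕ)} (hx : Rot z Q φ w x) (hw : fixCount w ≠ fixCount r1) :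
    ¬ IsConj y x := by
  classical
  intro hc
  obtain ⟨g, hg⟩ := isConj_iff.1 hc
  obtain ⟨k, hky, hkz⟩ := invol_conj T hfus (u := g⁻¹ * z * g)
    (by rw [orderOf_conj_inv_eq]; exact invol_of_mul_self T.S.zz T.S.zne) (by
      calc g⁻¹ * z * g * y = g⁻¹ * (z * (g * y * g⁻¹)) * g := by group
        _ = g⁻¹ * ((g * y * g⁻¹) * z) * g := by rw [hg, hx.comm]
        _ = y * (g⁻¹ * z * g) := by group)
  set g' := g * k⁻¹ with hg'
  have hz' : g' * z = z * g' := by
    have : z = k * (g⁻¹ * z * g) * k⁻¹ := hkz.symm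
    rw [hg']
    conv_lhs => rw [this]
    group
  have hy' : g' * y * g'⁻¹ = x := by
    have : k⁻¹ * y * k = y := by rw [mul_assoc, ← hky, inv_mul_cancel_left]
    calc g' * y * g'⁻¹ = g * (k⁻¹ * y * k) * g⁻¹ := by rw [hg']; group
      _ = x := by rw [this, hg]
  have key : ∀ v, wfun w (act Q φ g' v) = act Q φ g' (wfun r1 v) := fun v => by
    rw [← hx.act_eq, ← T.h1.act_eq, ← T.S.act_mul hx.comm hz', ← T.S.act_mul hz' T.h1.comm,
      show x * g' = g' * y by rw [← hy', inv_mul_cancel_right]]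
  refine hw (Finset.card_bij (fun v _ => act Q φ g'⁻¹ v) (fun v hv => ?_) (fun a _ b _ e => ?_) fun v hv => ?_)
  · simp only [Finset.mem_filter, Finset.mem_univ, true_and] at hv ⊢
    refine act_inj T.S hz' ?_
    rw [← key, T.S.act_inv_right hz', hv]
  · exact act_inj T.S (inv_comm_z hz') e
  · simp only [Finset.mem_filter, Finset.mem_univ, true_and] at hv
    refine ⟨act Q φ g' v, ?_, T.S.act_inv_left hz' v⟩
    simp only [Finset.mem_filter, Finset.mem_univ, true_and]
    rw [key, hv]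

theorem not_conj_two {a b : G} {wa wb : List (ℕ × ℕ)} (ha : Rot z Q φ wa a) (hb : Rot z Q φ wb b)
    (hwa : wa ∈ [r1, r1 ++ r1]) (hwb : wb ∈ [r2, r2 ++ r2]) (hab : a * b = b * a) : ¬ IsConj y (a * b) :=
  not_conj T hfus (ha.mul T.S hb hab) (fix_counts.1 _ hwa _ hwb)

omit hfus

theorem y_pow_rot : ∀ g ∈ zpowers y, ∃ w ∈ [[], r1, r1 ++ r1], Rot z Q φ w g := by
  intro g hg
  rcases mem_zpowers_three T.h1.cube hg with e | e | e <;> rw [e]
  · exact ⟨[], by simp, one_rot T⟩
  · exact ⟨r1, by simp, T.h1⟩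
  · exact ⟨r1 ++ r1, by simp, T.h1.mul T.S T.h1 rfl⟩

include hfus

/-- A nontrivial power of `y` times `y2` is not conjugate to `y`; nor a mixed product with `y3`. -/
theorem y2_lift {g : G} (hg : g ∈ zpowers y) (hc : IsConj y (y2 * g)) : g = 1 := by
  obtain ⟨w, hw, hrot⟩ := y_pow_rot T g hg
  by_contra hne
  have hw' : w ∈ [r1, r1 ++ r1] := by
    rcases List.mem_cons.1 hw with rfl | hw
    · exfalso
      exact hne (by
        rcases mem_zpowers_three T.h1.cube hg with e | e | e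
        · exact e
        · exfalso
          rw [e] at hrot
          have h := (T.h1.act_eq v0).symm.trans (hrot.act_eq v0)
          rw [rot_v0.1] at h
          exact absurd h (by decide +kernel)
        · exfalso
          rw [e] at hrot
          have h := ((T.h1.mul T.S T.h1 rfl).act_eq v0).symm.trans (hrot.act_eq v0)
          rw [wfun_append, rot_v0.1, rot_v0.2] at h
          exact absurd h (by decide +kernel))
    · exact hw
  have hcom : y2 * g = g * y2 := by
    obtain ⟨i, rfl⟩ := mem_zpowers_iff.1 hg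
    exact ((show Commute y2 y from T.c12.symm).zpow_right i).eq
  rw [hcom] at hc
  exact not_conj_two T hfus hrot T.h2 hw' (by simp) hcom.symm hc

theorem mixed_not_conj {g : G} (hg : g ∈ zpowers y) {b c : G} (hb : b = y2 ∨ b = y2 * y2)
    (hc : c = y3 ∨ c = y3 * y3) : ¬ IsConj y (g * (b * c)) := by
  obtain ⟨w, hw, hrot⟩ := y_pow_rot T g hg
  obtain ⟨i, rfl⟩ := mem_zpowers_iff.1 hg
  obtain ⟨wb, hwb, hb', hyb, hbc2⟩ : ∃ wb ∈ [r2, r2 ++ r2], Rot z Q φ wb b ∧ Commute y b ∧ Commute b y3 := by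
    rcases hb with rfl | rfl
    · exact ⟨r2, by simp, T.h2, T.c12, T.c23⟩
    · exact ⟨_, by simp, T.h2.mul T.S T.h2 rfl, (show Commute y y2 from T.c12).mul_right T.c12,
        (show Commute y2 y3 from T.c23).mul_left T.c23⟩
  obtain ⟨wc, hwc, hc', hyc, hbc⟩ : ∃ wc ∈ [r3, r3 ++ r3], Rot z Q φ wc c ∧ Commute y c ∧ Commute b c := by
    rcases hc with rfl | rfl
    · exact ⟨r3, by simp, T.h3, T.c13, hbc2⟩
    · exact ⟨_, by simp, T.h3.mul T.S T.h3 rfl, (show Commute y y3 from T.c13).mul_right T.c13,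
        hbc2.mul_right hbc2⟩
  exact not_conj T hfus (hrot.mul T.S (hb'.mul T.S hc' hbc.eq) ((hyb.mul_right hyc).zpow_left i).eq)
    (fix_counts.2.1 _ hw _ hwb _ hwc)

omit hfus

/-- An element exchanging `y` and `y2` and fixing `y3`. -/
theorem exists_swap : ∃ s : G, s * z = z * s ∧ s * y * s⁻¹ = y2 ∧ s * y2 * s⁻¹ = y ∧ s * y3 * s⁻¹ = y3 := by
  obtain ⟨h, hh, hact, h1, h2⟩ := exists_lift₂ T.S good_rot.2.2.2.2 swap_rot.1 swap_rot.2 T.h1 T.h2 T.h2 T.h1
    T.c12 T.c12.symm
  have h3 := T.h3.conj T.S hh hact swap_three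
  set R := Q ⊓ (centralizer ({y} : Set G) ⊓ centralizer ({y2} : Set G)) with hR
  have hy3 : y3 ∈ normalizer (R : Set G) := by
    rw [mem_normalizer_iff]
    intro q
    have hc1 : y3 ∈ centralizer ({y} : Set G) ⊓ centralizer ({y2} : Set G) :=
      ⟨mem_centralizer_singleton_iff.2 T.c13.symm, mem_centralizer_singleton_iff.2 T.c23.symm⟩
    rw [hR, mem_inf, mem_inf (p := Q)]
    refine and_congr (mem_normalizer_iff.1 (T.h3.mem_normalizer T.S) q) ⟨fun hq => ?_, fun hq => ?_⟩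
    · exact mul_mem (mul_mem hc1 hq) (inv_mem hc1)
    · have := mul_mem (mul_mem (inv_mem hc1) hq) hc1
      rwa [show y3⁻¹ * (y3 * q * y3⁻¹) * y3 = q by group] at this
  have hcx : h * y3 * h⁻¹ ∈ centralizer ({y} : Set G) ⊓ centralizer ({y2} : Set G) := by
    refine ⟨mem_centralizer_singleton_iff.2 ?_, mem_centralizer_singleton_iff.2 ?_⟩
    · rw [← h2, show h * y3 * h⁻¹ * (h * y2 * h⁻¹) = h * (y3 * y2) * h⁻¹ by group, ← T.c23]; group
    · rw [← h1, show h * y3 * h⁻¹ * (h * y * h⁻¹) = h * (y3 * y) * h⁻¹ by group, ← T.c13]; group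
  obtain ⟨q, hq, he⟩ := coset_conj ((isPGroup_Q T.S).to_le inf_le_left : IsPGroup 2 ↥R) T.h3.cube hy3 h3.cube
    ⟨h3.diff T.S T.h3, mul_mem ((centralizer ({y} : Set G) ⊓ centralizer ({y2} : Set G)).inv_mem (show y3 ∈ centralizer ({y} : Set G) ⊓ centralizer ({y2} : Set G) from
      ⟨mem_centralizer_singleton_iff.2 T.c13.symm, mem_centralizer_singleton_iff.2 T.c23.symm⟩)) hcx⟩
  have hq1 : q * y * q⁻¹ = y := by rw [mem_centralizer_singleton_iff.1 hq.2.1, mul_inv_cancel_right]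
  have hq2 : q * y2 * q⁻¹ = y2 := by rw [mem_centralizer_singleton_iff.1 hq.2.2, mul_inv_cancel_right]
  exact ⟨q * h, mul_comm_z (T.S.commQ hq.1) hh,
    by rw [show q * h * y * (q * h)⁻¹ = q * (h * y * h⁻¹) * q⁻¹ by group, h1, hq2],
    by rw [show q * h * y2 * (q * h)⁻¹ = q * (h * y2 * h⁻¹) * q⁻¹ by group, h2, hq1],
    by rw [show q * h * y3 * (q * h)⁻¹ = q * (h * y3 * h⁻¹) * q⁻¹ by group, he]⟩

end Std

end CfsgLib.InvChar.SuzM11
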