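import Cfsg.Agent.Lib.InvChar.SuzM11.Eleven
import Cfsg.Agent.Lib.InvChar.SuzType.Setup
import Cfsg.Prelude.Def_Transfer
import Cfsg.Prelude.Def_CaseTheorems

/-!
The 3-local subgroup with quotient the Mathieu group of degree eleven in a group of Suzuki type.
-/

set_option autoImplicit false
set_option maxRecDepth 100000
set_option linter.unusedSectionVars false
set_option linter.style.haveILetI false
set_option synthInstance.maxSize 4096
set_option synthInstance.maxHeartbeats 200000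

namespace CfsgLib.InvChar.SuzM11

open Subgroup CfsgLib.InvChar.SuzY CfsgLib.InvChar.SuzType
open scoped commutatorElement

universe u

variable {G : Type u} [Group G] [Finite G]

/-- The properties asked of the group of order `3⁵`. -/
def Good (A : Subgroup G) : Prop :=
  Cfsg.IsElementaryAbelian 3 A ∧ Nat.card A = 3 ^ 5 ∧ centralizer (A : Set G) = A ∧
    ∃ _ : (A.subgroupOf (normalizer (A : Set G))).Normal,
      Cfsg.Spor.IsoM11 (↥(normalizer (A : Set G)) ⧸ A.subgroupOf (normalizer (A : Set G)))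

theorem Good.map {A : Subgroup G} (h : Good A) (f : G ≃* G) : Good (A.map f.toMonoidHom) := by
  obtain ⟨⟨hc, h3⟩, hcard, hC, hN, ⟨e⟩⟩ := h
  obtain ⟨A', hA'⟩ : ∃ A', A' = A.map f.toMonoidHom := ⟨_, rfl⟩
  rw [← hA']
  haveI : (A'.subgroupOf (normalizer (A' : Set G))).Normal := normal_in_normalizer
  refine ⟨⟨⟨⟨fun a b => ?_⟩⟩, fun a ha => ?_⟩, ?_, ?_, inferInstance, ?_⟩
  · obtain ⟨u, hu, ea⟩ : (a : G) ∈ A.map f.toMonoidHom := hA' ▸ a.2
    obtain ⟨v, hv, eb⟩ : (b : G) ∈ A.map f.toMonoidHom := hA' ▸ b.2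
    refine Subtype.ext ?_
    show (a : G) * b = b * a
    rw [← ea, ← eb, ← map_mul, ← map_mul]
    exact congrArg _ (congrArg Subtype.val (hc.is_comm.comm ⟨u, hu⟩ ⟨v, hv⟩))
  · rw [hA'] at ha
    obtain ⟨u, hu, rfl⟩ := ha
    rw [← map_pow, h3 u hu, map_one]
  · rw [hA', card_map_of_injective (MulEquiv.injective _), hcard]
  · rw [hA']
    ext x
    obtain ⟨x, rfl⟩ := f.surjective x
    show f x ∈ _ ↔ f.toMonoidHom x ∈ _
    rw [mem_map_iff_mem f.injective, ← SetLike.ext_iff.1 hC x, mem_centralizer_iff, mem_centralizer_iff]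
    constructor
    · intro hx w hw
      exact f.injective (by rw [map_mul, map_mul]; exact hx (f w) ⟨w, hw, rfl⟩)
    · rintro hx _ ⟨w, hw, rfl⟩
      show f w * f x = f x * f w
      rw [← map_mul, ← map_mul, hx w hw]
  · have hNA : (normalizer (A : Set G)).map f.toMonoidHom = normalizer (A' : Set G) := by
      rw [map_equiv_normalizer_eq, hA']
    let g : ↥(normalizer (A : Set G)) ≃* ↥(normalizer (A' : Set G)) :=
      (f.subgroupMap _).trans (MulEquiv.subgroupCongr hNA)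
    haveI := hN
    refine ⟨(QuotientGroup.congr (A.subgroupOf (normalizer (A : Set G))) _ g ?_).symm.trans e⟩
    ext x
    obtain ⟨x, rfl⟩ := g.surjective x
    rw [mem_map, mem_subgroupOf, SetLike.ext_iff.1 hA' _, show ((g x : ↥(normalizer (A' : Set G))) : G) = f.toMonoidHom (x : G) from rfl,
      mem_map_iff_mem f.injective]
    exact ⟨fun ⟨w, hw, e⟩ => (g.injective e) ▸ mem_subgroupOf.1 hw, fun hx => ⟨x, mem_subgroupOf.2 hx, rfl⟩⟩

/-- The theorem. -/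
theorem main (z : G) (hz : orderOf z = 2) (Q : Subgroup (centralizer ({z} : Set G))) [Q.Normal]
    (hF : Cfsg.generalizedFittingSubgroup (centralizer ({z} : Set G)) = Q) (hQ : Cfsg.IsExtraspecial 2 Q)
    (hcard : Nat.card Q = 2 ^ 7)
    (e : (centralizer ({z} : Set G)) ⧸ Q ≃* Cfsg.Omega (ZMod 2) (Cfsg.quadFormMinus 2 (ZMod 2) 1 1))
    (hnwc : ∃ g : G, (∃ hq : g * z * g⁻¹ ∈ centralizer ({z} : Set G),
      (⟨g * z * g⁻¹, hq⟩ : centralizer ({z} : Set G)) ∈ Q) ∧ g * z * g⁻¹ ≠ z)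
    (X : Subgroup (centralizer ({z} : Set G))) (hX : Nat.card X = 3) (hQX : Nat.card ↥⁅Q, X⁆ = 8)
    (hQXna : ¬ IsMulCommutative ↥⁅Q, X⁆) (Y' : Subgroup G)
    (hY' : Y' = X.map (centralizer ({z} : Set G)).subtype) (P : Sylow 3 ↥(normalizer (Y' : Set G))) :
    ¬ 3 ∣ (P.1.map (normalizer (Y' : Set G)).subtype).index ∧
      ∃ A : Subgroup G, A ≤ P.1.map (normalizer (Y' : Set G)).subtype ∧ Good A := by
  classical
  obtain ⟨φ, S⟩ := SuzType.exists_data z hz Q hF hQ hcard e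
  obtain ⟨Q', hQ'⟩ : ∃ Q', Q' = Q.map (centralizer ({z} : Set G)).subtype := ⟨_, rfl⟩
  rw [← hQ'] at S
  have hfus : ∃ g : G, g * z * g⁻¹ ∈ Q' ∧ g * z * g⁻¹ ≠ z := by
    obtain ⟨g, ⟨hq, hgQ⟩, hne⟩ := hnwc
    exact ⟨g, hQ' ▸ ⟨_, hgQ, rfl⟩, hne⟩
  haveI : Fact (Nat.Prime 3) := ⟨Nat.prime_three⟩
  obtain ⟨y₀, hy₀⟩ := (isCyclic_of_prime_card hX).exists_generator
  obtain ⟨y, hy⟩ : ∃ y : G, y = ((y₀ : ↥(centralizer ({z} : Set G))) : G) := ⟨_, rfl⟩
  have hYz : Y' = zpowers y := by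
    rw [hY']
    refine le_antisymm ?_ (zpowers_le.2 ⟨_, y₀.2, hy.symm⟩)
    rintro _ ⟨a, ha, rfl⟩
    obtain ⟨k, hk⟩ := hy₀ ⟨a, ha⟩
    rw [hy]
    exact ⟨k, congrArg (fun u : ↥X => ((u : ↥(centralizer ({z} : Set G))) : G)) hk⟩
  have hyz : y * z = z * y := hy ▸ mem_centralizer_singleton_iff.1 (y₀ : ↥(centralizer ({z} : Set G))).2
  have hy3 : y * y * y = 1 := by
    have h1 : y₀ ^ Nat.card X = 1 := pow_card_eq_one'
    rw [hX] at h1
    have h2 := congrArg (fun u : ↥X => ((u : ↥(centralizer ({z} : Set G))) : G)) h1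
    simpa [pow_succ, hy] using h2
  have hKmap : ⁅Q', zpowers y⁆ = (⁅Q, X⁆).map (centralizer ({z} : Set G)).subtype := by
    rw [Subgroup.map_commutator, hQ', ← hY', hYz]
  obtain ⟨k, hk, hR⟩ := exists_rot_of_commutator S hyz hy3
    (by rw [hKmap, card_map_of_injective (centralizer ({z} : Set G)).subtype_injective, hQX])
    (fun h => hQXna ⟨⟨fun a b => by
      have hm : ∀ u : ↥⁅Q, X⁆, ((u : ↥(centralizer ({z} : Set G))) : G) ∈ ⁅Q', zpowers y⁆ := fun u => by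
        rw [hKmap]; exact mem_map_of_mem (centralizer ({z} : Set G)).subtype u.2
      have h1 := h.is_comm.comm ⟨_, hm a⟩ ⟨_, hm b⟩
      have h2 := congrArg Subtype.val h1
      exact Subtype.ext (Subtype.ext (by simpa using h2))⟩⟩)
  -- change the coordinates
  have hki := inv_comm_z hk
  have hQk : Q'.map (MulAut.conj k⁻¹).toMonoidHom = Q' := by
    refine le_antisymm (fun x hx => ?_) fun x hx => ⟨k * x * k⁻¹, S.norm hk hx, by simp [mul_assoc]⟩
    obtain ⟨q, hq, rfl⟩ := hx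
    exact S.norm hki hq
  have hzk : k⁻¹ * z * k⁻¹⁻¹ = z := S.conjZ hki
  obtain ⟨ψ, hψ⟩ : ∃ ψ, ψ = fun x => φ ((k⁻¹)⁻¹ * x * k⁻¹) := ⟨_, rfl⟩
  have S' : Data z Q' ψ := by
    have h := S.map k⁻¹
    rwa [hQk, hzk, ← hψ] at h
  have hR' : Rot z Q' ψ r1 y := by
    refine ⟨hyz, hy3, S'.act_eq hyz fun q hq => ?_⟩
    rw [hψ]
    show φ (k⁻¹⁻¹ * (y * q * y⁻¹) * k⁻¹) = wfun r1 (φ (k⁻¹⁻¹ * q * k⁻¹))
    rw [inv_inv, show k * (y * q * y⁻¹) * k⁻¹ = k * y * k⁻¹ * (k * q * k⁻¹) * (k * y * k⁻¹)⁻¹ by group,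
      ← S.act_phi hR.comm (S.norm hk hq), hR.act_eq]
  obtain ⟨y2, y3, T⟩ := exists_std S' hR'
  subst hYz
  obtain ⟨π, hsurj, hker, hm2, hm3⟩ := exists_model T hfus
  have K : Ctx z Q' ψ y y2 y3 π := ⟨T, hfus, hsurj, hker, hm2, hm3⟩
  obtain ⟨hidx, g, hg⟩ := K.sylow_facts P
  refine ⟨hidx, _, hg, Good.map ⟨⟨⟨⟨fun a b => Subtype.ext (K.A_comm a.2 b.2)⟩⟩, fun a ha => ?_⟩, ?_,
    K.centralizer_A, K.quot_M11⟩ _⟩
  · rw [pow_succ, pow_two]; exact K.A_cube ha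
  · rw [K.card_A]; norm_num

end CfsgLib.InvChar.SuzM11
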