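import Cfsg.Agent.Lib.InvChar.SuzM11.Data
import Cfsg.Agent.Lib.U43.Inst

/-!
The stabiliser of the point `4` in the model of `U₄(3)`: it normalises an elementary abelian group of order
`81`, which is self-centralising, and its action on that group is transitive on three classes of elements.
-/

set_option autoImplicit false
set_option maxRecDepth 100000
set_option Elab.async false

namespace CfsgLib.InvChar.SuzM11

open CfsgLib.U43 CfsgLib.InvChar.Coset CfsgLib.KnownA.PermCert CfsgLib.KnownA.U4ThreeSchur Subgroup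

/-- A word acting on a point. -/
def act (L : List ℕ) (i : ℕ) : ℕ := actW (L.map letterCode) i

/-- Two words act alike. -/
def same (L M : List ℕ) : Bool := (List.range 112).all fun i => Nat.beq (act L i) (act M i)

/-- The element of a word. -/
noncomputable abbrev m (L : List ℕ) : GP := wprod mGen L

theorem m_val (L : List ℕ) (i : Fin 112) : (((m L : GP) : Equiv.Perm (Fin 112)) i : ℕ) = act L i := by
  rw [coe_wprod, prodW_val (fun c hc => by
    obtain ⟨x, -, rfl⟩ := List.mem_map.1 hc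
    exact (letterCode_mem x).1)]
  rfl

theorem m_eq_iff {L M : List ℕ} : m L = m M ↔ same L M = true := by
  simp only [same, List.all_eq_true, List.mem_range]
  constructor
  · intro e i hi
    rw [← m_val L ⟨i, hi⟩, ← m_val M ⟨i, hi⟩, e]
    exact Nat.beq_refl _
  · intro h
    refine Subtype.ext (Equiv.ext fun i => Fin.ext ?_)
    rw [m_val, m_val, Nat.eq_of_beq_eq_true (h i i.2)]

theorem m_eq {L M : List ℕ} (h : same L M = true) : m L = m M := m_eq_iff.2 h

theorem m_append (L M : List ℕ) : m (L ++ M) = m L * m M := wprod_append _ _ _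

theorem m_nil : m [] = 1 := rfl

theorem m_reverse (L : List ℕ) : m L.reverse = (m L)⁻¹ := by
  refine eq_inv_of_mul_eq_one_left ?_
  induction L with
  | nil => simp [m, wprod]
  | cons x L ih =>
    rw [List.reverse_cons, m_append, show m [x] = mGen x by simp [m, wprod],
      show m (x :: L) = mGen x * m L by simp [m, wprod], mul_assoc, ← mul_assoc (mGen x), mGen_sq, one_mul, ih]

/-- The word of a list of positions in `sGens`. -/
def sW (l : List ℕ) : List ℕ := l.flatMap fun j => sGens.getD j []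

/-- The four basis elements. -/
def bW (i : ℕ) : List ℕ := conjB.getD i [] ++ wordY ++ (conjB.getD i []).reverse

/-- The elements `0, …, 80`. -/
def expW (e : ℕ) : List ℕ :=
  (List.range 4).flatMap fun i => (List.replicate (e / 3 ^ i % 3) (bW i)).flatten

/-- The elementary abelian group of order `81`. -/
noncomputable def Asub : Subgroup GP := closure {g | ∃ i < 4, g = m (bW i)}

theorem basis_check : ((List.range 4).all fun i =>
    same (bW i ++ bW i ++ bW i) [] && (List.range 4).all fun j => same (bW i ++ bW j) (bW j ++ bW i)) = true := by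
  decide +kernel

theorem bW_mem {i : ℕ} (hi : i < 4) : m (bW i) ∈ Asub := subset_closure ⟨i, hi, rfl⟩

theorem flatten_replicate_mem {L : List ℕ} (hL : m L ∈ Asub) : ∀ k, m (List.replicate k L).flatten ∈ Asub
  | 0 => by rw [List.replicate_zero, List.flatten_nil, m_nil]; exact one_mem _
  | k + 1 => by rw [List.replicate_succ, List.flatten_cons, m_append]; exact mul_mem hL (flatten_replicate_mem hL k)

theorem expW_mem (e : ℕ) : m (expW e) ∈ Asub := by
  have h : ∀ l : List ℕ, (∀ i ∈ l, i < 4) →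
      m (l.flatMap fun i => (List.replicate (e / 3 ^ i % 3) (bW i)).flatten) ∈ Asub := by
    intro l
    induction l with
    | nil => intro _; rw [List.flatMap_nil, m_nil]; exact one_mem _
    | cons x l ih =>
      intro hl
      rw [List.flatMap_cons, m_append]
      exact mul_mem (flatten_replicate_mem (bW_mem (hl x List.mem_cons_self)) _)
        (ih fun i hi => hl i (List.mem_cons_of_mem _ hi))
  exact h _ fun i hi => List.mem_range.1 hi

theorem Asub_comm {a b : GP} (ha : a ∈ Asub) (hb : b ∈ Asub) : a * b = b * a := by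
  have hc : Asub ≤ centralizer (Asub : Set GP) := by
    refine (closure_le _).2 ?_
    rintro _ ⟨i, hi, rfl⟩
    refine mem_centralizer_iff.2 fun x hx => ?_
    induction hx using closure_induction with
    | mem x hx =>
      obtain ⟨j, hj, rfl⟩ := hx
      have h := List.all_eq_true.1 basis_check j (List.mem_range.2 hj)
      rw [Bool.and_eq_true] at h
      rw [← m_append, ← m_append]
      exact m_eq (List.all_eq_true.1 h.2 i (List.mem_range.2 hi))
    | one => rw [one_mul, mul_one]
    | mul a b _ _ e1 e2 => rw [mul_assoc, e2, ← mul_assoc, e1, mul_assoc]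
    | inv a _ e => exact ((show Commute a _ from e).inv_left).eq
  exact mem_centralizer_iff.1 (hc hb) a ha

theorem Asub_cube {a : GP} (ha : a ∈ Asub) : a * a * a = 1 := by
  induction ha using closure_induction with
  | mem x hx =>
    obtain ⟨i, hi, rfl⟩ := hx
    have hc := List.all_eq_true.1 basis_check i (List.mem_range.2 hi)
    rw [Bool.and_eq_true] at hc
    rw [← m_append, ← m_append, ← m_nil]
    exact m_eq hc.1
  | one => simp
  | mul a b ha hb e1 e2 =>
    have h : Commute a b := Asub_comm ha hb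
    rw [← pow_two, ← pow_succ, h.mul_pow, pow_succ, pow_two, pow_succ, pow_two, e1, e2, one_mul]
  | inv a _ e => rw [← mul_inv_rev, ← mul_inv_rev, ← mul_assoc, e, inv_one]

theorem m_replicate (L : List ℕ) : ∀ k, m (List.replicate k L).flatten = m L ^ k
  | 0 => by rw [List.replicate_zero, List.flatten_nil, m_nil, pow_zero]
  | k + 1 => by rw [List.replicate_succ, List.flatten_cons, m_append, m_replicate L k, pow_succ']

theorem m_expW (e : ℕ) : m (expW e) =
    m (bW 0) ^ (e % 3) * (m (bW 1) ^ (e / 3 % 3) * (m (bW 2) ^ (e / 9 % 3) * m (bW 3) ^ (e / 27 % 3))) := by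
  simp [expW, List.range_succ, m_append, m_replicate]

theorem exists_exp {g : GP} (hg : g ∈ Asub) : ∃ e < 81, g = m (expW e) := by
  suffices ∃ i j k l : ℕ, g = m (bW 0) ^ i * (m (bW 1) ^ j * (m (bW 2) ^ k * m (bW 3) ^ l)) by
    obtain ⟨i, j, k, l, rfl⟩ := this
    have hp : ∀ q < 4, ∀ n, m (bW q) ^ n = m (bW q) ^ (n % 3) := fun q hq n =>
      pow_eq_pow_mod n (by rw [pow_succ, pow_two]; exact Asub_cube (bW_mem hq))
    refine ⟨i % 3 + 3 * (j % 3) + 9 * (k % 3) + 27 * (l % 3), by omega, ?_⟩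
    rw [m_expW, hp 0 (by norm_num) i, hp 1 (by norm_num) j, hp 2 (by norm_num) k, hp 3 (by norm_num) l]
    congr 1
    · congr 1; omega
    congr 1
    · congr 1; omega
    congr 1
    · congr 1; omega
    · congr 1; omega
  induction hg using closure_induction with
  | mem x hx =>
    obtain ⟨i, hi, rfl⟩ := hx
    interval_cases i
    · exact ⟨1, 0, 0, 0, by simp⟩
    · exact ⟨0, 1, 0, 0, by simp⟩
    · exact ⟨0, 0, 1, 0, by simp⟩
    · exact ⟨0, 0, 0, 1, by simp⟩
  | one => exact ⟨0, 0, 0, 0, by simp⟩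
  | mul a b _ _ iha ihb =>
    obtain ⟨i, j, k, l, rfl⟩ := iha
    obtain ⟨i', j', k', l', rfl⟩ := ihb
    refine ⟨i + i', j + j', k + k', l + l', ?_⟩
    have hA : ∀ q < 4, ∀ n, m (bW q) ^ n ∈ Asub := fun q hq n => pow_mem (bW_mem hq) n
    have mmm : ∀ {a b c d : GP}, b ∈ Asub → c ∈ Asub → (a * b) * (c * d) = (a * c) * (b * d) :=
      fun {a b c d} hb hc => by
        rw [mul_assoc, ← mul_assoc b c, Asub_comm hb hc, mul_assoc c b, ← mul_assoc]
    rw [mmm (mul_mem (hA 1 (by norm_num) j) (mul_mem (hA 2 (by norm_num) k) (hA 3 (by norm_num) l)))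
        (hA 0 (by norm_num) i'),
      mmm (mul_mem (hA 2 (by norm_num) k) (hA 3 (by norm_num) l)) (hA 1 (by norm_num) j'),
      mmm (hA 3 (by norm_num) l) (hA 2 (by norm_num) k'), ← pow_add, ← pow_add, ← pow_add, ← pow_add]
  | inv a ha ih =>
    obtain ⟨i, j, k, l, e⟩ := ih
    refine ⟨i + i, j + j, k + k, l + l, ?_⟩
    have h2 : a⁻¹ = a * a := inv_eq_of_mul_eq_one_right (by rw [← mul_assoc]; exact Asub_cube ha)
    have hA : ∀ q < 4, ∀ n, m (bW q) ^ n ∈ Asub := fun q hq n => pow_mem (bW_mem hq) n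
    have mmm : ∀ {a b c d : GP}, b ∈ Asub → c ∈ Asub → (a * b) * (c * d) = (a * c) * (b * d) :=
      fun {a b c d} hb hc => by
        rw [mul_assoc, ← mul_assoc b c, Asub_comm hb hc, mul_assoc c b, ← mul_assoc]
    rw [h2, e, mmm (mul_mem (hA 1 (by norm_num) j) (mul_mem (hA 2 (by norm_num) k) (hA 3 (by norm_num) l)))
        (hA 0 (by norm_num) i),
      mmm (mul_mem (hA 2 (by norm_num) k) (hA 3 (by norm_num) l)) (hA 1 (by norm_num) j),
      mmm (hA 3 (by norm_num) l) (hA 2 (by norm_num) k), ← pow_add, ← pow_add, ← pow_add, ← pow_add]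

/-- The elements fixing the listed points. -/
noncomputable def Fix (l : List ℕ) : Subgroup GP where
  carrier := {g | ∀ i : Fin 112, (i : ℕ) ∈ l → (g : Equiv.Perm (Fin 112)) i = i}
  one_mem' := fun i _ => rfl
  mul_mem' := fun {a b} ha hb i hi => by
    rw [Subgroup.coe_mul, Equiv.Perm.mul_apply, hb i hi, ha i hi]
  inv_mem' := fun {a} ha i hi => by
    rw [Subgroup.coe_inv, Equiv.Perm.inv_eq_iff_eq, ha i hi]

theorem mem_Fix {l : List ℕ} {g : GP} :
    g ∈ Fix l ↔ ∀ i : Fin 112, (i : ℕ) ∈ l → (g : Equiv.Perm (Fin 112)) i = i := Iff.rfl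

/-- A transversal check. -/
def chainOK (l : List ℕ) (b : ℕ) (R : List (List ℕ)) : Bool :=
  (R.all fun w => l.all fun i => Nat.beq (act w i) i) && decide (R.map fun w => act w b).Nodup

theorem chain_step {l : List ℕ} {b : Fin 112} {R : List (List ℕ)} (h : chainOK l b R = true) :
    R.length * Nat.card ↥(Fix ((b : ℕ) :: l)) ≤ Nat.card ↥(Fix l) ∧
      (R.length * Nat.card ↥(Fix ((b : ℕ) :: l)) = Nat.card ↥(Fix l) →
        ∀ g ∈ Fix l, ∃ w ∈ R, ∃ g' ∈ Fix ((b : ℕ) :: l), g = m w * g') := by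
  rw [chainOK, Bool.and_eq_true, List.all_eq_true, decide_eq_true_iff] at h
  obtain ⟨h1, h2⟩ := h
  have hfix : ∀ w ∈ R, m w ∈ Fix l := fun w hw i hi => Fin.ext (by
    rw [m_val]; exact Nat.eq_of_beq_eq_true (List.all_eq_true.1 (h1 w hw) i hi))
  have hsub : Fix ((b : ℕ) :: l) ≤ Fix l := fun g hg i hi => hg i (List.mem_cons_of_mem _ hi)
  let f : Fin R.length × ↥(Fix ((b : ℕ) :: l)) → ↥(Fix l) := fun p =>
    ⟨m (R.get p.1) * p.2, mul_mem (hfix _ (List.get_mem _ _)) (hsub p.2.2)⟩
  have hinj : Function.Injective f := by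
    rintro ⟨i, g⟩ ⟨j, g'⟩ e
    have e' : m (R.get i) * (g : GP) = m (R.get j) * g' := congrArg Subtype.val e
    have hb : ∀ (k : Fin R.length) (u : ↥(Fix ((b : ℕ) :: l))),
        ((((m (R.get k) * (u : GP) : GP)) : Equiv.Perm (Fin 112)) b : ℕ) = act (R.get k) b := fun k u => by
      rw [Subgroup.coe_mul, Equiv.Perm.mul_apply, u.2 b List.mem_cons_self, m_val]
    have e2 : act (R.get i) b = act (R.get j) b := by rw [← hb i g, ← hb j g', e']
    have hij : i = j := by
      have := List.nodup_iff_injective_get.1 h2 (a₁ := ⟨i, by simp⟩) (a₂ := ⟨j, by simp⟩) (by simpa using e2)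
      simpa [Fin.ext_iff] using this
    subst hij
    exact Prod.ext rfl (Subtype.ext (mul_left_cancel e'))
  have hle := Nat.card_le_card_of_injective f hinj
  rw [Nat.card_prod, Nat.card_fin] at hle
  refine ⟨hle, fun heq g hg => ?_⟩
  have hb := hinj.bijective_of_nat_card_le (by rw [Nat.card_prod, Nat.card_fin, heq])
  obtain ⟨⟨i, g'⟩, e⟩ := hb.2 ⟨g, hg⟩
  exact ⟨R.get i, List.get_mem _ _, g', g'.2, (congrArg Subtype.val e).symm⟩

theorem chain_ok : chainOK [4] 0 ((List.range 81).map expW) = true ∧ chainOK [0, 4] 3 (reps0.map sW) = true ∧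
    chainOK [3, 0, 4] 32 (reps1.map sW) = true ∧ chainOK [32, 3, 0, 4] 5 (reps2.map sW) = true := by
  decide +kernel

theorem lengths : reps0.length = 20 ∧ reps1.length = 9 ∧ reps2.length = 2 := by decide +kernel

theorem card_fix_four : Nat.card ↥(Fix [4]) = 29160 := by
  rw [← card_point_stab ⟨4, by norm_num⟩]
  refine Nat.card_congr (Equiv.subtypeEquivRight fun g => ?_)
  rw [MulAction.mem_stabilizer_iff]
  constructor
  · exact fun h => h ⟨4, by norm_num⟩ List.mem_cons_self
  · intro h i hi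
    rw [List.mem_singleton] at hi
    rw [show i = ⟨4, by norm_num⟩ from Fin.ext hi]
    exact h

/-- The orders along the chain, and the decompositions. -/
theorem chain_facts : Nat.card ↥(Fix [5, 32, 3, 0, 4]) = 1 ∧ Nat.card ↥(Fix [32, 3, 0, 4]) = 2 ∧
    Nat.card ↥(Fix [0, 4]) = 360 ∧
    (∀ g ∈ Fix [4], ∃ a ∈ Asub, ∃ g' ∈ Fix [0, 4], g = a * g') ∧
    ∀ g ∈ Fix [4], ∃ l0 ∈ reps0, ∃ l1 ∈ reps1, ∃ l2 ∈ reps2, ∃ a ∈ Asub,
      g = a * (m (sW l0) * (m (sW l1) * m (sW l2))) := by
  obtain ⟨h1, h2, h3, h4⟩ := chain_ok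
  obtain ⟨e0, e1, e2⟩ := lengths
  obtain ⟨s1, t1⟩ := chain_step (b := (0 : Fin 112)) h1
  obtain ⟨s2, t2⟩ := chain_step (b := (3 : Fin 112)) h2
  obtain ⟨s3, t3⟩ := chain_step (b := (32 : Fin 112)) h3
  obtain ⟨s4, t4⟩ := chain_step (b := (5 : Fin 112)) h4
  simp only [List.length_map, List.length_range, e0, e1, e2, show ((0 : Fin 112) : ℕ) = 0 from rfl,
    show ((3 : Fin 112) : ℕ) = 3 from rfl, show ((32 : Fin 112) : ℕ) = 32 from rfl,
    show ((5 : Fin 112) : ℕ) = 5 from rfl, card_fix_four] at s1 s2 s3 s4 t1 t2 t3 t4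
  have hpos : 0 < Nat.card ↥(Fix [5, 32, 3, 0, 4]) := Nat.card_pos
  have c5 : Nat.card ↥(Fix [5, 32, 3, 0, 4]) = 1 := by omega
  have dec : ∀ g ∈ Fix [4], ∃ a ∈ Asub, ∃ g' ∈ Fix [0, 4], g = a * g' := by
    intro g hg
    obtain ⟨w, hw, g', hg', e⟩ := t1 (by omega) g hg
    obtain ⟨k, -, rfl⟩ := List.mem_map.1 hw
    exact ⟨_, expW_mem k, g', hg', e⟩
  refine ⟨c5, by omega, by omega, dec, fun g hg => ?_⟩
  obtain ⟨a, ha, g1, hg1, rfl⟩ := dec g hg
  obtain ⟨_, hw0, g2, hg2, rfl⟩ := t2 (by omega) g1 hg1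
  obtain ⟨l0, hl0, rfl⟩ := List.mem_map.1 hw0
  obtain ⟨_, hw1, g3, hg3, rfl⟩ := t3 (by omega) g2 hg2
  obtain ⟨l1, hl1, rfl⟩ := List.mem_map.1 hw1
  obtain ⟨_, hw2, g4, hg4, rfl⟩ := t4 (by omega) g3 hg3
  obtain ⟨l2, hl2, rfl⟩ := List.mem_map.1 hw2
  have : Subsingleton ↥(Fix [5, 32, 3, 0, 4]) := (Nat.card_eq_one_iff_unique.1 c5).1
  rw [show g4 = 1 from congrArg Subtype.val (Subsingleton.elim (⟨g4, hg4⟩ : ↥(Fix [5, 32, 3, 0, 4])) 1),
    mul_one]
  exact ⟨l0, hl0, l1, hl1, l2, hl2, a, ha, rfl⟩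

theorem fix_check : ((List.range 4).all fun i => Nat.beq (act (bW i) 4) 4) = true ∧
    ((List.range 112).all fun i =>
      Nat.beq i 4 || (List.range 4).any fun j => !Nat.beq (act (bW j) i) i) = true ∧
    ((List.range 112).all fun i => Nat.beq i 4 || !Nat.beq (act (bW 0) i) i || !Nat.beq (act (bW 1) i) i) = true := by
  decide +kernel

theorem Asub_le : Asub ≤ Fix [4] := by
  refine (closure_le _).2 ?_
  rintro _ ⟨j, hj, rfl⟩ i hi
  rw [List.mem_singleton] at hi
  refine Fin.ext ?_
  rw [m_val, hi]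
  exact Nat.eq_of_beq_eq_true (List.all_eq_true.1 fix_check.1 j (List.mem_range.2 hj))

/-- The point `4` is fixed by what normalises the group. -/
theorem normalizer_le : normalizer (Asub : Set GP) ≤ Fix [4] := by
  intro g hg i hi
  rw [List.mem_singleton] at hi
  by_contra hne
  have h := List.all_eq_true.1 fix_check.2.1 _ (List.mem_range.2 ((g : Equiv.Perm (Fin 112)) i).2)
  rw [Bool.or_eq_true, List.any_eq_true] at h
  rcases h with h | ⟨j, hj, h⟩
  · exact hne (Fin.ext ((Nat.eq_of_beq_eq_true h).trans hi.symm))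
  · have h1 := Asub_le ((mem_normalizer_iff''.1 hg _).1 (bW_mem (List.mem_range.1 hj))) i (by rw [hi]; simp)
    simp only [Subgroup.coe_mul, Equiv.Perm.mul_apply, Subgroup.coe_inv, Equiv.Perm.inv_eq_iff_eq] at h1
    have h2 := congrArg Fin.val h1
    rw [m_val] at h2
    rw [Bool.not_eq_true'] at h
    rw [h2, Nat.beq_refl] at h
    exact Bool.noConfusion h

theorem centralizer_Asub : centralizer (Asub : Set GP) = Asub := by
  refine le_antisymm (fun x hx => ?_) fun a ha => mem_centralizer_iff.2 fun b hb => Asub_comm hb ha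
  have hxN : x ∈ normalizer (Asub : Set GP) := centralizer_le_normalizer _ hx
  obtain ⟨a, ha, g, hg, rfl⟩ := chain_facts.2.2.2.1 x (normalizer_le hxN)
  have hgc : ∀ b ∈ Asub, b * g = g * b := fun b hb => by
    have := mem_centralizer_iff.1 hx b hb
    rw [← mul_assoc, Asub_comm hb ha, mul_assoc, mul_assoc] at this
    exact mul_left_cancel this
  have hall : g ∈ Fix [5, 32, 3, 0, 4] := by
    intro i hi
    have hfar : ∀ e < 81, ∀ j : Fin 112, (j : ℕ) = act (expW e) 0 → (g : Equiv.Perm (Fin 112)) j = j := by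
      intro e _ j hj
      have hj' : j = (m (expW e) : Equiv.Perm (Fin 112)) 0 := Fin.ext (by rw [hj, m_val]; rfl)
      rw [hj', ← Equiv.Perm.mul_apply, ← Subgroup.coe_mul, ← hgc _ (expW_mem e), Subgroup.coe_mul,
        Equiv.Perm.mul_apply, hg 0 (by simp)]
    have hbase : ∀ i ∈ [5, 32, 3, 0], ∃ e, e < 81 ∧ act (expW e) 0 = i := by decide +kernel
    rcases List.mem_cons.1 hi with h | hi
    · obtain ⟨e, he, he'⟩ := hbase 5 (by simp); exact hfar e he i (h.trans he'.symm)
    rcases List.mem_cons.1 hi with h | hi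
    · obtain ⟨e, he, he'⟩ := hbase 32 (by simp); exact hfar e he i (h.trans he'.symm)
    rcases List.mem_cons.1 hi with h | hi
    · obtain ⟨e, he, he'⟩ := hbase 3 (by simp); exact hfar e he i (h.trans he'.symm)
    exact hg i hi
  have : Subsingleton ↥(Fix [5, 32, 3, 0, 4]) := (Nat.card_eq_one_iff_unique.1 chain_facts.1).1
  rw [show g = 1 from congrArg Subtype.val (Subsingleton.elim (⟨g, hall⟩ : ↥(Fix [5, 32, 3, 0, 4])) 1), mul_one]
  exact ha

theorem norm_check : ((List.range 6).all fun j => (List.range 4).all fun i =>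
    (List.range 81).any fun e => same (sGens.getD j [] ++ bW i ++ (sGens.getD j []).reverse) (expW e)) = true := by
  decide +kernel

theorem reps_lt : ((reps0 ++ reps1 ++ reps2 ++ classTable.map Prod.snd).all
    fun l => l.all fun j => decide (j < 6)) = true := by
  decide +kernel

theorem gen_mem_normalizer {j : ℕ} (hj : j < 6) : m (sGens.getD j []) ∈ normalizer (Asub : Set GP) := by
  have hle : Asub.map (MulAut.conj (m (sGens.getD j []))).toMonoidHom ≤ Asub := by
    rw [Asub, MonoidHom.map_closure, closure_le]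
    rintro _ ⟨_, ⟨i, hi, rfl⟩, rfl⟩
    obtain ⟨e, -, he⟩ := List.any_eq_true.1
      (List.all_eq_true.1 (List.all_eq_true.1 norm_check j (List.mem_range.2 hj)) i (List.mem_range.2 hi))
    show m (sGens.getD j []) * m (bW i) * (m (sGens.getD j []))⁻¹ ∈ Asub
    rw [← m_reverse, ← m_append, ← m_append, m_eq he]
    exact expW_mem e
  have heq : Asub.map (MulAut.conj (m (sGens.getD j []))).toMonoidHom = Asub :=
    eq_of_le_of_card_ge hle (by rw [card_map_of_injective (MulEquiv.injective _)])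
  refine mem_normalizer_iff.2 fun a => ⟨fun ha => hle ⟨a, ha, rfl⟩, fun ha => ?_⟩
  rw [← heq] at ha
  obtain ⟨b, hb, e⟩ := ha
  have : b = a := mul_left_cancel (mul_right_cancel e)
  exact this ▸ hb

theorem sW_mem {l : List ℕ} (hl : ∀ j ∈ l, j < 6) : m (sW l) ∈ normalizer (Asub : Set GP) := by
  induction l with
  | nil => exact one_mem _
  | cons j l ih =>
    rw [sW, List.flatMap_cons, m_append]
    exact mul_mem (gen_mem_normalizer (hl j List.mem_cons_self)) (ih fun i hi => hl i (List.mem_cons_of_mem _ hi))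

theorem sW_mem_of {l : List ℕ} (hl : l ∈ reps0 ++ reps1 ++ reps2 ++ classTable.map Prod.snd) :
    m (sW l) ∈ normalizer (Asub : Set GP) :=
  sW_mem fun j hj => of_decide_eq_true (List.all_eq_true.1 (List.all_eq_true.1 reps_lt l hl) j hj)

theorem normalizer_Asub : normalizer (Asub : Set GP) = Fix [4] := by
  refine le_antisymm normalizer_le fun g hg => ?_
  obtain ⟨l0, h0, l1, h1, l2, h2, a, ha, rfl⟩ := chain_facts.2.2.2.2 g hg
  exact mul_mem (le_normalizer ha) (mul_mem (sW_mem_of (by simp [h0]))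
    (mul_mem (sW_mem_of (by simp [h1])) (sW_mem_of (by simp [h2]))))

theorem card_normalizer : Nat.card ↥(normalizer (Asub : Set GP)) = 29160 := by
  rw [normalizer_Asub, card_fix_four]

theorem card_Asub : Nat.card ↥Asub = 81 := by
  refine le_antisymm ?_ ?_
  · have hs : Function.Surjective fun e : Fin 81 => (⟨m (expW e), expW_mem e⟩ : ↥Asub) := by
      rintro ⟨a, ha⟩
      obtain ⟨e, he, rfl⟩ := exists_exp ha
      exact ⟨⟨e, he⟩, rfl⟩
    simpa using Nat.card_le_card_of_surjective _ hs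
  · have hi : Function.Injective fun e : Fin 81 => (⟨m (expW e), expW_mem e⟩ : ↥Asub) := by
      intro e e' h
      have h2 := chain_ok.1
      rw [chainOK, Bool.and_eq_true, decide_eq_true_iff] at h2
      have h3 : act (expW e) 0 = act (expW e') 0 := by
        rw [show (0 : ℕ) = ((0 : Fin 112) : ℕ) from rfl, ← m_val, ← m_val]
        exact congrArg (fun a : ↥Asub => (((a : GP) : Equiv.Perm (Fin 112)) 0 : ℕ)) h
      have := List.nodup_iff_injective_get.1 h2.2 (a₁ := ⟨e, by simp⟩) (a₂ := ⟨e', by simp⟩) (by simpa using h3)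
      simpa [Fin.ext_iff] using this
    simpa using Nat.card_le_card_of_injective _ hi

/-- The elements of order three of the centraliser of the first two basis elements lie in the group. -/
theorem mem_Asub_of_cube {x : GP} (h0 : x * m (bW 0) = m (bW 0) * x) (h1 : x * m (bW 1) = m (bW 1) * x)
    (h3 : x * x * x = 1) : x ∈ Asub := by
  have hfix : ∀ j < 2, ∀ i : Fin 112, (i : ℕ) = 4 →
      ((m (bW j) : GP) : Equiv.Perm (Fin 112)) i = i := fun j hj i hi =>
    Asub_le (bW_mem (by omega)) i (by simp [hi])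
  have hx4 : x ∈ Fix [4] := by
    intro i hi
    rw [List.mem_singleton] at hi
    by_contra hne
    have h := List.all_eq_true.1 fix_check.2.2 _ (List.mem_range.2 ((x : Equiv.Perm (Fin 112)) i).2)
    have key : ∀ j < 2, x * m (bW j) = m (bW j) * x →
        act (bW j) ((x : Equiv.Perm (Fin 112)) i) = ((x : Equiv.Perm (Fin 112)) i : ℕ) := fun j hj e => by
      rw [← m_val, ← Equiv.Perm.mul_apply, ← Subgroup.coe_mul, ← e, Subgroup.coe_mul, Equiv.Perm.mul_apply,
        hfix j hj i hi]
    rw [key 0 (by norm_num) h0, key 1 (by norm_num) h1] at h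
    simp only [Nat.beq_refl, Bool.not_true, Bool.or_false, Nat.beq_eq] at h
    exact hne (Fin.ext (h.trans hi.symm))
  obtain ⟨a, ha, g, hg, rfl⟩ := chain_facts.2.2.2.1 x hx4
  have hgc : ∀ j < 2, a * g * m (bW j) = m (bW j) * (a * g) → g * m (bW j) = m (bW j) * g := fun j hj e => by
    rw [← mul_assoc, ← Asub_comm ha (bW_mem (by omega)), mul_assoc, mul_assoc] at e
    exact mul_left_cancel e
  have hg' : g ∈ Fix [32, 3, 0, 4] := by
    have hbase : act (bW 0) 0 = 3 ∧ act (bW 1) 0 = 32 := by decide +kernel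
    have hmv : ∀ j < 2, g * m (bW j) = m (bW j) * g → ∀ i : Fin 112, (i : ℕ) = act (bW j) 0 →
        (g : Equiv.Perm (Fin 112)) i = i := fun j _ e i hi => by
      rw [show i = (m (bW j) : Equiv.Perm (Fin 112)) 0 from Fin.ext (by rw [hi, m_val]; rfl),
        ← Equiv.Perm.mul_apply, ← Subgroup.coe_mul, e, Subgroup.coe_mul, Equiv.Perm.mul_apply, hg 0 (by simp)]
    intro i hi
    rcases List.mem_cons.1 hi with h | hi
    · exact hmv 1 (by norm_num) (hgc 1 (by norm_num) h1) i (h.trans hbase.2.symm)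
    rcases List.mem_cons.1 hi with h | hi
    · exact hmv 0 (by norm_num) (hgc 0 (by norm_num) h0) i (h.trans hbase.1.symm)
    exact hg i hi
  have hgg : g * g = 1 := by
    have := pow_card_eq_one' (x := (⟨g, hg'⟩ : ↥(Fix [32, 3, 0, 4])))
    rw [chain_facts.2.1, pow_two] at this
    exact congrArg Subtype.val this
  -- `g` is in the group: it is the odd part of `x`
  have hgN : g ∈ normalizer (Asub : Set GP) :=
    normalizer_Asub ▸ (fun i hi => hg i (List.mem_cons_of_mem _ hi) : g ∈ Fix [4])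
  have hgA : g ∈ Asub := by
    have h1' : g * a * g⁻¹ ∈ Asub := (mem_normalizer_iff.1 hgN a).1 ha
    have e : a * g * (a * g) * (a * g) = a * (g * a * g⁻¹) * (g * g) * a * g := by group
    rw [e, hgg, mul_one] at h3
    rw [eq_inv_of_mul_eq_one_right h3]
    exact inv_mem (mul_mem (mul_mem ha h1') ha)
  exact mul_mem ha hgA

end CfsgLib.InvChar.SuzM11
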