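import Cfsg.Agent.Lib.InvChar.SuzM11.Cert
import Cfsg.Agent.Lib.InvChar.SuzM11.Fusion
import Cfsg.Agent.Lib.U43.RootThree

/-!
A map of the centraliser of `y` onto the model carrying `y2` and `y3` to the first two basis elements.
-/

set_option autoImplicit false
set_option maxRecDepth 100000
set_option linter.unusedSectionVars false
set_option synthInstance.maxSize 4096
set_option synthInstance.maxHeartbeats 200000

namespace CfsgLib.InvChar.SuzM11

open CfsgLib.U43 CfsgLib.InvChar.Coset CfsgLib.KnownA.U4ThreeSchur Subgroup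
open CfsgLib.InvChar.SuzY CfsgLib.InvChar.SuzType CfsgLib.Invol

/-- Conjugators carrying the second root element to the others commuting with the first. -/
def pairW : List (List ℕ) := [[], [1, 2, 1, 2, 3, 2], [2, 1, 4, 3, 2, 1], [1, 2, 4, 3, 6, 2]]

theorem pair_check : (RootThree.conjY.all fun c =>
    !same (c ++ bW 0 ++ c.reverse ++ bW 0) (bW 0 ++ (c ++ bW 0 ++ c.reverse)) ||
      same (c ++ bW 0 ++ c.reverse) (bW 0) || same (c ++ bW 0 ++ c.reverse) (bW 0).reverse ||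
      pairW.any fun k => same (k ++ bW 0) (bW 0 ++ k) &&
        (same (k ++ bW 1 ++ k.reverse) (c ++ bW 0 ++ c.reverse) ||
          same (k ++ bW 1 ++ k.reverse) (c ++ bW 0 ++ c.reverse).reverse)) = true := by
  decide +kernel

theorem bW_zero : bW 0 = wordY := rfl

attribute [local irreducible] same act bW

/-- An element of order three centralising a root of `z` is a conjugate of the standard one. -/
theorem exists_conjY {X : Type*} [Group X] [Finite X] {z : X} {f : ℕ → X} (h : Rels z f)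
    (hcard : Nat.card (centralizer ({z} : Set X)) = 1152)
    {w a : X} (hw : orderOf w = 3) (hwz : w * z = z * w) (haz : a * z = z * a) (haw : a * w = w * a)
    (ha : a * a = z) :
    ∃ c ∈ RootThree.conjY, wprod f c * wprod f wordY * (wprod f c)⁻¹ = w := by
  have Φ : HFrame z f := ⟨h.sq, h.zeq, h.relH, h.centralizer_le, hcard⟩
  obtain ⟨i, hi, hwi⟩ := Φ.exists_word (mem_centralizer_singleton_iff.2 hwz)
  have hiL := wdA_mem hi
  have app : ∀ {L M : List ℕ}, (∀ x ∈ L, x ∈ lettersH) → (∀ x ∈ M, x ∈ lettersH) →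
      ∀ x ∈ L ++ M, x ∈ lettersH := fun hL hM x hx => (List.mem_append.1 hx).elim (hL x) (hM x)
  have rev : ∀ {L : List ℕ}, (∀ x ∈ L, x ∈ lettersH) → ∀ x ∈ L.reverse, x ∈ lettersH :=
    fun hL x hx => hL x (List.mem_reverse.1 hx)
  have hcube : hvA (wdA i ++ wdA i ++ wdA i) = hvA [] := by
    refine (Φ.eq_iff (app (app hiL hiL) hiL) (by simp)).1 ?_
    rw [wprod_append, wprod_append, hwi, ← pow_three', ← hw, pow_orderOf_eq_one]
    rfl
  have hne : i ≠ hvA [] := fun e => by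
    have := (Φ.eq_iff hiL (M := []) (by simp)).2 (by rw [hvA_wdA hi, e])
    rw [hwi] at this
    rw [show w = 1 from this, orderOf_one] at hw
    exact absurd hw (by norm_num)
  have hclass := List.all_eq_true.1 RootThree.cube_check i (List.mem_range.2 hi)
  simp only [hcube, Bool.or_eq_true, Nat.beq_eq, RootThree.inCls, List.any_eq_true, Bool.not_eq_true'] at hclass
  have hmem := List.all_eq_true.1 RootThree.mem_check
  have conj_eq : ∀ {c v : List ℕ}, (∀ x ∈ c, x ∈ lettersH) → (∀ x ∈ v, x ∈ lettersH) →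
      hvA (c ++ v ++ c.reverse) = i → wprod f c * wprod f v * (wprod f c)⁻¹ = w := fun {c v} hc hv e => by
    have := (Φ.eq_iff (app (app hc hv) (rev hc)) hiL).2 (by rw [e, hvA_wdA hi])
    rwa [wprod_append, wprod_append, RootThree.wprod_reverse h.sq, hwi] at this
  have hcm : ∀ c ∈ RootThree.conjY ++ RootThree.conjA ++ RootThree.conjB, ∀ x ∈ c, x ∈ lettersH :=
    fun c hc x hx => of_decide_eq_true (List.all_eq_true.1 (hmem c hc) x hx)
  have bad : ∀ v ∈ [[1, 6], [2, 3]], (∀ x ∈ v, x ∈ lettersH) → ∀ c, (∀ x ∈ c, x ∈ lettersH) →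
      hvA (c ++ v ++ c.reverse) = i → False := by
    intro v hv hvL c hc e
    have he := conj_eq hc hvL e
    have hcz : wprod f c * z = z * wprod f c := mem_centralizer_singleton_iff.1 (Φ.mem_C hc)
    obtain ⟨k, hk, hku⟩ := Φ.exists_word (g := (wprod f c)⁻¹ * a * wprod f c) (mem_centralizer_singleton_iff.2 (by
      have hu : Commute (wprod f c) z := hcz
      exact ((hu.inv_left).mul_left (show Commute a z from haz)).mul_left hu))
    have hkL := wdA_mem hk
    have hk0 := List.all_eq_true.1 (List.all_eq_true.1 RootThree.no_root v hv) k (List.mem_range.2 hk)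
    have e1 : hvA (wdA k ++ wdA k) = hvA [0] := (Φ.eq_iff (app hkL hkL) (by decide)).1 (by
      rw [wprod_append, hku, show wprod f [0] = f 0 by simp [wprod], Φ.zeq]
      generalize wprod f c = u at hcz ⊢
      rw [show u⁻¹ * a * u * (u⁻¹ * a * u) = u⁻¹ * (a * a) * u by group, ha, mul_assoc, ← hcz, ← mul_assoc,
        inv_mul_cancel, one_mul])
    have e2 : hvA (wdA k ++ v) = hvA (v ++ wdA k) := (Φ.eq_iff (app hkL hvL) (app hvL hkL)).1 (by
      rw [wprod_append, wprod_append, hku]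
      generalize wprod f c = u at he ⊢
      have e' : wprod f v = u⁻¹ * w * u := by rw [← he]; group
      rw [e', show u⁻¹ * a * u * (u⁻¹ * w * u) = u⁻¹ * (a * w) * u by group, haw]
      group)
    simp [e1, e2] at hk0
  rcases hclass with (((h1 | h1) | ⟨c, hc, e⟩) | ⟨c, hc, e⟩) | ⟨c, hc, e⟩
  · exact absurd h1 (by simp)
  · exact absurd h1 hne
  · exact ⟨c, hc, conj_eq (hcm c (by simp [hc])) (by decide) e⟩
  · exact (bad [1, 6] (by simp) (by decide) c (hcm c (by simp [hc])) e).elim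
  · exact (bad [2, 3] (by simp) (by decide) c (hcm c (by simp [hc])) e).elim

variable {G : Type*} [Group G] [Finite G] {z : G} {Q : Subgroup G} {φ : G → V} {y y2 y3 : G}

/-- The map onto the model. -/
theorem exists_model (T : Std z Q φ y y2 y3) (hfus : ∃ g : G, g * z * g⁻¹ ∈ Q ∧ g * z * g⁻¹ ≠ z) :
    ∃ π : ↥(centralizer ({y} : Set G)) →* GP, Function.Surjective π ∧
      (∀ g : ↥(centralizer ({y} : Set G)), π g = 1 ↔ (g : G) ∈ zpowers y) ∧
      (∀ h : y2 ∈ centralizer ({y} : Set G), π ⟨y2, h⟩ = m (bW 0)) ∧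
      ∀ h : y3 ∈ centralizer ({y} : Set G), π ⟨y3, h⟩ = m (bW 1) ∨ π ⟨y3, h⟩ = (m (bW 1))⁻¹ := by
  set C := centralizer ({y} : Set G) with hC
  set N := (zpowers y).subgroupOf C with hN
  obtain ⟨f, hR, hzX, hcard, hF⟩ := T.exists_rels hfus (Std.z_mem' T)
  let q := QuotientGroup.mk' N
  haveI : IsSimpleGroup GP := model_facts.2.1
  obtain ⟨ψ, hinj, hψ⟩ := exists_injective_of_rels modelFacts.toIsModel hR (invol_ne_one hzX)
    fun u hu hc h3 => eq_one_of_central hF hu hc h3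
  have hcardX : Nat.card (↥C ⧸ N) = Nat.card GP := by
    rw [(card_and_involutions hzX hcard hF hR).1, card_GP]; norm_num
  let E : GP ≃* ↥C ⧸ N := MulEquiv.ofBijective ψ (hinj.bijective_of_nat_card_le hcardX.le)
  have hE : ∀ L : List ℕ, (∀ x ∈ L, x < 7) → E.symm (wprod f L) = m L := fun L hL => by
    rw [← map_wprod ψ mGen f L fun x hx => hψ x (hL x hx)]
    exact E.symm_apply_apply _
  have hy2C : y2 ∈ C := mem_centralizer_singleton_iff.2 T.c12.symm
  have hy3C : y3 ∈ C := mem_centralizer_singleton_iff.2 T.c13.symm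
  -- roots of `z`
  have mk : ∀ {w : G} (hwC : w ∈ C) (wd : List (ℕ × ℕ)), Rot z Q φ wd w →
      (∀ v ∈ [[], r1, r1 ++ r1], ¬ SameMap wd v) →
      ∀ a : G, a ∈ T.W → a * w = w * a → a * a = z →
      ∃ c ∈ RootThree.conjY, E.symm (q ⟨w, hwC⟩) = m c * m (bW 0) * (m c)⁻¹ := by
    intro w hwC wd hrot hne a haW haw ha
    have haC : a ∈ C := mem_centralizer_singleton_iff.2 (T.mem_W.1 haW).2.symm
    obtain ⟨c, hc, e⟩ := exists_conjY hR hcard (w := q ⟨w, hwC⟩) (a := q ⟨a, haC⟩)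
      (orderOf_three (by rw [← map_mul, ← map_mul, show (⟨w, hwC⟩ * ⟨w, hwC⟩ * ⟨w, hwC⟩ : ↥C) = 1 from
        Subtype.ext hrot.cube, map_one]) fun e => by
          have h1 : w ∈ zpowers y := mem_subgroupOf.1 ((QuotientGroup.eq_one_iff _).1 e)
          obtain ⟨v, hv, hv'⟩ := Std.y_pow_rot T w h1
          exact hne v hv fun i _ => (hrot.act_eq _).symm.trans (hv'.act_eq _))
      (by rw [← map_mul, ← map_mul]; exact congrArg q (Subtype.ext hrot.comm))
      (by rw [← map_mul, ← map_mul]; exact congrArg q (Subtype.ext (T.S.commQ (T.mem_W.1 haW).1)))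
      (by rw [← map_mul, ← map_mul]; exact congrArg q (Subtype.ext haw))
      (by rw [← map_mul]; exact congrArg q (Subtype.ext ha))
    refine ⟨c, hc, ?_⟩
    have hc7 : ∀ x ∈ c, x < 7 := (by decide +kernel : ∀ c ∈ RootThree.conjY, ∀ x ∈ c, x < 7) c hc
    rw [← e, map_mul, map_mul, map_inv, hE _ hc7, hE _ (by decide), bW_zero]
  obtain ⟨a3, ha3, ea3⟩ := T.S.hsurj (code 12)
  have hq12 : qf (code 12) = 1 ∧ InP3 (code 12) ∧ qf (code 3) = 1 ∧ InP2 (code 3) := by decide +kernel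
  have ha3' : a3 ∈ T.Q3 := ⟨ha3, ea3 ▸ hq12.2.1⟩
  obtain ⟨c0, hc0, e0⟩ := mk hy2C r2 T.h2 fix_counts.2.2.2.2.2 a3 (T.Q3_le ha3') (T.y2_comm ha3').symm
    (by rw [T.S.hsq _ ha3, ea3, hq12.1, zp_one])
  obtain ⟨a2, ha2, ea2⟩ := T.S.hsurj (code 3)
  have ha2' : a2 ∈ T.Q2 := ⟨ha2, ea2 ▸ hq12.2.2.2⟩
  obtain ⟨c1, hc1, e1⟩ := mk hy3C r3 T.h3 fix_counts.2.2.2.2.1 a2 (T.Q2_le ha2') (T.y3_comm ha2').symm
    (by rw [T.S.hsq _ ha2, ea2, hq12.2.2.1, zp_one])
  let π₁ : ↥C →* GP := (MulAut.conj (m c0)⁻¹).toMonoidHom.comp (E.symm.toMonoidHom.comp q)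
  have hπ1 : ∀ g, π₁ g = (m c0)⁻¹ * E.symm (q g) * m c0 := fun g => by
    show (m c0)⁻¹ * E.symm (q g) * (m c0)⁻¹⁻¹ = _
    rw [inv_inv]
  have p2 : π₁ ⟨y2, hy2C⟩ = m (bW 0) := by rw [hπ1, e0]; group
  -- the image of `y3`: in the class of the first element of the centraliser of `z`
  set x := π₁ ⟨y3, hy3C⟩ with hx
  have hxc : x * m (bW 0) = m (bW 0) * x := by
    rw [hx, ← p2, ← map_mul, ← map_mul]; exact congrArg π₁ (Subtype.ext T.c23.symm)
  have hxne : ∀ u ∈ zpowers (m (bW 0)), x ≠ u := by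
    intro u hu e
    rw [← p2, ← MonoidHom.map_zpowers] at hu
    obtain ⟨u, ⟨i, rfl⟩, rfl⟩ := hu
    have h1 : q ⟨y3, hy3C⟩ = q (⟨y2, hy2C⟩ ^ i) := by
      have := e
      rw [hx, hπ1, hπ1] at this
      exact E.symm.injective (mul_left_cancel (mul_right_cancel this))
    have h2 : y3⁻¹ * y2 ^ i ∈ zpowers y := mem_subgroupOf.1 (QuotientGroup.eq.1 h1)
    have h3 : y2 ^ i ∈ zpowers y2 := ⟨i, rfl⟩
    obtain ⟨wa, hwa, hra⟩ : ∃ w ∈ [[], r1, r1 ++ r1], Rot z Q φ w (y3⁻¹ * y2 ^ i)⁻¹ :=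
      Std.y_pow_rot T _ (inv_mem h2)
    have e3 : y3 = (y2 ^ i) * (y3⁻¹ * y2 ^ i)⁻¹ := by group
    have hcomm : y2 ^ i * (y3⁻¹ * y2 ^ i)⁻¹ = (y3⁻¹ * y2 ^ i)⁻¹ * y2 ^ i := by
      obtain ⟨j, hj⟩ := mem_zpowers_iff.1 (inv_mem h2)
      rw [← hj]
      exact ((show Commute y2 y from T.c12.symm).zpow_zpow i j).eq
    rcases mem_zpowers_three T.h2.cube h3 with e4 | e4 | e4
    · rw [e4, one_mul] at e3
      rw [e4] at hra
      rw [← e3] at hra
      exact fix_counts.2.2.2.2.1 wa hwa fun j _ => (T.h3.act_eq _).symm.trans (hra.act_eq _)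
    · have hr : Rot z Q φ (wa ++ r2) y3 := by
        rw [e3, hcomm, e4]
        rw [e4] at hcomm hra
        exact hra.mul T.S T.h2 hcomm.symm
      exact fix_counts.2.2.2.1 wa hwa r2 (by simp) fun j _ => (T.h3.act_eq _).symm.trans (hr.act_eq _)
    · have hr : Rot z Q φ (wa ++ (r2 ++ r2)) y3 := by
        rw [e3, hcomm, e4]
        rw [e4] at hcomm hra
        exact hra.mul T.S (T.h2.mul T.S T.h2 rfl) hcomm.symm
      exact fix_counts.2.2.2.1 wa hwa _ (by simp) fun j _ => (T.h3.act_eq _).symm.trans (hr.act_eq _)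
  have hxcl : ∃ c ∈ RootThree.conjY, x = m c * m (bW 0) * (m c)⁻¹ := by
    -- conjugation by `c0⁻¹` permutes the class
    have hclosed : ((RootThree.conjY.all fun c => RootThree.conjY.all fun c' => RootThree.conjY.any fun d =>
        same (c.reverse ++ (c' ++ bW 0 ++ c'.reverse) ++ c) (d ++ bW 0 ++ d.reverse))) = true := by
      decide +kernel
    obtain ⟨d, hd, he⟩ := List.any_eq_true.1
      (List.all_eq_true.1 (List.all_eq_true.1 hclosed c0 hc0) c1 hc1)
    refine ⟨d, hd, ?_⟩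
    have he' := m_eq he
    simp only [m_append, m_reverse] at he'
    rw [hx, hπ1, e1, ← he']
  obtain ⟨c, hc, exc⟩ := hxcl
  have h := List.all_eq_true.1 pair_check c hc
  simp only [Bool.or_eq_true, List.any_eq_true, Bool.and_eq_true, Bool.not_eq_true'] at h
  have key : x = m (c ++ bW 0 ++ c.reverse) := by rw [exc, m_append, m_append, m_reverse]
  rcases h with ((h | h) | h) | ⟨k, -, hk, hk'⟩
  · exfalso
    have e := m_eq_iff.1 (show m (c ++ bW 0 ++ c.reverse ++ bW 0) = m (bW 0 ++ (c ++ bW 0 ++ c.reverse)) by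
      rw [m_append (c ++ bW 0 ++ c.reverse) (bW 0), m_append (bW 0) (c ++ bW 0 ++ c.reverse), ← key, hxc])
    rw [h] at e
    exact Bool.noConfusion e
  · exact absurd (key.trans (m_eq h)) (hxne _ (mem_zpowers _))
  · exact absurd (key.trans ((m_eq h).trans (m_reverse _))) (hxne _ (inv_mem (mem_zpowers _)))
  refine ⟨(MulAut.conj (m k)⁻¹).toMonoidHom.comp π₁, ?_, fun g => ?_, fun h => ?_, fun h => ?_⟩
  · exact (MulAut.conj (m k)⁻¹).surjective.comp ((MulAut.conj (m c0)⁻¹).surjective.comp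
      (E.symm.surjective.comp (QuotientGroup.mk'_surjective N)))
  · rw [MonoidHom.comp_apply, MulEquiv.coe_toMonoidHom, MulEquiv.map_eq_one_iff, hπ1,
      show (m c0)⁻¹ * E.symm (q g) * m c0 = (m c0)⁻¹ * E.symm (q g) * ((m c0)⁻¹)⁻¹ by rw [inv_inv],
      conj_eq_one_iff, MulEquiv.map_eq_one_iff]
    exact (QuotientGroup.eq_one_iff g).trans mem_subgroupOf
  · show (m k)⁻¹ * π₁ ⟨y2, h⟩ * (m k)⁻¹⁻¹ = m (bW 0)
    have hk0 : m k * m (bW 0) = m (bW 0) * m k := by rw [← m_append, ← m_append]; exact m_eq hk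
    rw [show π₁ ⟨y2, h⟩ = m (bW 0) from p2, inv_inv, mul_assoc, ← hk0, inv_mul_cancel_left]
  · show (m k)⁻¹ * π₁ ⟨y3, h⟩ * (m k)⁻¹⁻¹ = _ ∨ (m k)⁻¹ * π₁ ⟨y3, h⟩ * (m k)⁻¹⁻¹ = _
    rw [show π₁ ⟨y3, h⟩ = x from rfl, inv_inv]
    rcases hk' with hk' | hk'
    · left
      rw [key, ← m_eq hk', m_append, m_append, m_reverse]
      group
    · right
      have e := m_eq hk'
      rw [m_reverse, ← key, m_append, m_append, m_reverse] at e
      rw [← inv_inv x, ← e]
      group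

end CfsgLib.InvChar.SuzM11
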