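import Cfsg.Agent.Lib.InvChar.SuzM11.Frame
import Cfsg.Agent.Lib.InvChar.SuzY.Main

/-!
A Sylow 3-subgroup of the normaliser of `⟨y⟩` containing `A` is a Sylow 3-subgroup of the whole group.
-/

set_option autoImplicit false
set_option maxRecDepth 100000
set_option linter.unusedSectionVars false
set_option synthInstance.maxSize 4096
set_option synthInstance.maxHeartbeats 200000

namespace CfsgLib.InvChar.SuzM11

open CfsgLib.U43 CfsgLib.InvChar.Coset CfsgLib.KnownA.U4ThreeSchur Subgroup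
open CfsgLib.InvChar.SuzY CfsgLib.InvChar.SuzType CfsgLib.Invol

attribute [local irreducible] same act bW expW uW vW

theorem isPGroup_zpowers_of_pow {X : Type*} [Group X] {x : X} {k : ℕ} (h : x ^ 3 ^ k = 1) :
    IsPGroup 3 ↥(zpowers x) := by
  obtain ⟨i, -, hi⟩ := (Nat.dvd_prime_pow Nat.prime_three).1 (orderOf_dvd_of_pow_eq_one h)
  exact IsPGroup.of_card (n := i) (by rw [Nat.card_zpowers, hi])

theorem mem_zpowers_mul_self {X : Type*} [Group X] {x : X} {k : ℕ} (h : x ^ 3 ^ k = 1) :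
    x ∈ zpowers (x * x) := by
  obtain ⟨c, hc⟩ : Odd (3 ^ k : ℕ) := Odd.pow (by decide)
  refine ⟨((c + 1 : ℕ) : ℤ), ?_⟩
  show (x * x) ^ ((c + 1 : ℕ) : ℤ) = x
  rw [zpow_natCast, ← pow_two, ← pow_mul, show 2 * (c + 1) = 3 ^ k + 1 by omega, pow_succ, h, one_mul]

/-- The group of order `729` above `Asub`. -/
noncomputable def Usub : Subgroup GP := Asub ⊔ zpowers (m uW) ⊔ zpowers (m vW)

theorem isPGroup_Usub : IsPGroup 3 ↥Usub := by
  obtain ⟨-, -, hu, hv, a, ha, huv⟩ := uW_facts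
  have hA : IsPGroup 3 ↥Asub := IsPGroup.of_card (n := 4) (by rw [card_Asub]; norm_num)
  have h9 : ∀ {x : GP}, x * x * x ∈ Asub → x ^ 3 ^ 2 = 1 := fun {x} hx => by
    rw [show (3 : ℕ) ^ 2 = 3 * 3 by norm_num, pow_mul, pow_succ, pow_two, pow_succ, pow_two, Asub_cube hx]
  have h1 : IsPGroup 3 ↥(Asub ⊔ zpowers (m uW)) :=
    hA.to_sup_of_normal_left' (isPGroup_zpowers_of_pow (h9 hu)) (zpowers_le.2 uW_mem.1)
  refine h1.to_sup_of_normal_left' (isPGroup_zpowers_of_pow (h9 hv)) (zpowers_le.2 ?_)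
  suffices (m vW)⁻¹ ∈ normalizer ((Asub ⊔ zpowers (m uW) : Subgroup GP) : Set GP) by
    simpa using inv_mem this
  refine Ctx.mem_normalizer_of_le fun k hk => ?_
  have hle : Asub ⊔ zpowers (m uW) ≤
      (Asub ⊔ zpowers (m uW)).comap (MulAut.conj (m vW)⁻¹).toMonoidHom := by
    refine sup_le (fun b hb => mem_sup_left ?_) (zpowers_le.2 ?_)
    · exact (mem_normalizer_iff.1 (inv_mem uW_mem.2) b).1 hb
    · show (m vW)⁻¹ * m uW * (m vW)⁻¹⁻¹ ∈ Asub ⊔ zpowers (m uW)
      rw [inv_inv, mul_assoc, huv, mul_assoc (m vW), inv_mul_cancel_left]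
      exact mul_mem (mem_sup_right (mem_zpowers _)) (mem_sup_left ha)
  exact hle hk

theorem Asub_le_Usub : Asub ≤ Usub := le_sup_left.trans le_sup_left

namespace Ctx

variable {G : Type*} [Group G] [Finite G] {z : G} {Q : Subgroup G} {φ : G → V} {y y2 y3 : G}
  {π : ↥(centralizer ({y} : Set G)) →* GP} (K : Ctx z Q φ y y2 y3 π)

/-- The preimage of the group of order `729`. -/
noncomputable def P0 (_K : Ctx z Q φ y y2 y3 π) : Subgroup G :=
  (Usub.comap π).map (centralizer ({y} : Set G)).subtype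

include K

theorem A_le_P0 : K.A ≤ K.P0 := map_mono (comap_mono Asub_le_Usub)

theorem isPGroup_P0 : IsPGroup 3 ↥K.P0 := by
  refine (isPGroup_Usub.comap_of_ker_isPGroup π ?_).map _
  intro g
  refine ⟨1, Subtype.ext (Subtype.ext ?_)⟩
  obtain ⟨i, hi⟩ := mem_zpowers_iff.1 ((K.ker g.1).1 g.2)
  simp only [pow_one, SubmonoidClass.coe_pow, OneMemClass.coe_one]
  rw [← hi, ← zpow_natCast, ← zpow_mul, mul_comm, zpow_mul, zpow_natCast, pow_succ, pow_two, K.T.h1.cube,
    one_zpow]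

/-- What commutes with the preimage lies in `⟨y⟩⟨y2⟩`. -/
theorem cent_P0 {x : G} (hx : ∀ h ∈ K.P0, h * x = x * h) :
    ∃ g ∈ zpowers y, ∃ b ∈ zpowers y2, x = g * b := by
  have hxA : x ∈ K.A := by
    rw [← K.centralizer_A]
    exact mem_centralizer_iff.2 fun a ha => hx a (K.A_le_P0 ha)
  obtain ⟨hxC, hxA'⟩ := K.mem_A.1 hxA
  have key : ∀ {w : GP}, w ∈ Usub → w * π ⟨x, hxC⟩ = π ⟨x, hxC⟩ * w := by
    intro w hw
    obtain ⟨w', rfl⟩ := K.surj w
    rw [← map_mul, ← map_mul]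
    exact congrArg π (Subtype.ext (hx w' ⟨w', hw, rfl⟩))
  obtain ⟨i, hi⟩ := mem_zpowers_iff.1 (fixed_Asub hxA' (key (mem_sup_left (mem_sup_right (mem_zpowers _))))
    (key (mem_sup_right (mem_zpowers _))))
  obtain ⟨g, hg, e⟩ := K.eq_mul_of_map_eq (a := ⟨y2, K.y2C⟩ ^ i) (b := ⟨x, hxC⟩)
    (by rw [map_zpow, K.map2, hi])
  refine ⟨g, hg, y2 ^ i, zpow_mem (mem_zpowers _) i, ?_⟩
  rw [show x = ((⟨x, hxC⟩ : ↥(centralizer ({y} : Set G))) : G) from rfl, e, SubgroupClass.coe_zpow]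
  exact K.comm_zpowers hg (zpow_mem K.y2C i)

theorem cent_le_normalizer : centralizer ({y} : Set G) ≤ normalizer ((zpowers y : Subgroup G) : Set G) := by
  rw [← centralizer_closure, ← zpowers_eq_closure]
  exact centralizer_le_normalizer _

/-- Elements of 3-power order of the normaliser centralise `y`. -/
theorem comm_of_three {h : G} (hh : h ∈ normalizer ((zpowers y : Subgroup G) : Set G)) {k : ℕ}
    (hk : h ^ 3 ^ k = 1) : h * y = y * h := by
  have h2 := mul_self_mem_of_index_two (H := (centralizer ({y} : Set G)).subgroupOf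
    (normalizer ((zpowers y : Subgroup G) : Set G))) (SuzY.Std.relIndex_normalizer K.T) ⟨h, hh⟩
  exact mem_centralizer_singleton_iff.1 (zpowers_le.2 (mem_subgroupOf.1 h2) (mem_zpowers_mul_self hk))

theorem mem_normalizer_of_conj {n : G} (h : n * y * n⁻¹ ∈ zpowers y) :
    n ∈ normalizer ((zpowers y : Subgroup G) : Set G) := by
  refine mem_normalizer_of_le fun a ha => ?_
  obtain ⟨i, rfl⟩ := mem_zpowers_iff.1 ha
  rw [← conj_zpow]
  exact zpow_mem h i

/-- A conjugate of `y` in `⟨y⟩⟨y2⟩` lies in one of the factors. -/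
theorem conj_cases {x g b : G} (hg : g ∈ zpowers y) (hb : b ∈ zpowers y2) (e : x = g * b) (hc : IsConj y x) :
    x ∈ zpowers y ∨ x ∈ zpowers y2 := by
  have hgb : g * b = b * g := (K.comm_zpowers hg (zpowers_le.2 K.y2C hb)).symm
  rcases mem_zpowers_three K.T.h1.cube hg with hg' | hg'
  · exact Or.inr (by rw [e, hg', one_mul]; exact hb)
  rcases mem_zpowers_three K.T.h2.cube hb with hb' | hb'
  · exact Or.inl (by rw [e, hb', mul_one]; exact hg)
  exfalso
  obtain ⟨wa, hwa, hra⟩ : ∃ w ∈ [r1, r1 ++ r1], Rot z Q φ w g := by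
    rcases hg' with rfl | rfl
    · exact ⟨r1, by simp, K.T.h1⟩
    · exact ⟨r1 ++ r1, by simp, K.T.h1.mul K.T.S K.T.h1 rfl⟩
  obtain ⟨wb, hwb, hrb⟩ : ∃ w ∈ [r2, r2 ++ r2], Rot z Q φ w b := by
    rcases hb' with rfl | rfl
    · exact ⟨r2, by simp, K.T.h2⟩
    · exact ⟨r2 ++ r2, by simp, K.T.h2.mul K.T.S K.T.h2 rfl⟩
  exact Std.not_conj_two K.T K.hfus hra hrb hwa hwb hgb (e ▸ hc)

/-- A Sylow 3-subgroup of the normaliser of `⟨y⟩` above `A` has index prime to three. -/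
theorem exists_sylow : ∃ P : Sylow 3 ↥(normalizer ((zpowers y : Subgroup G) : Set G)),
    K.A ≤ P.1.map (normalizer ((zpowers y : Subgroup G) : Set G)).subtype ∧
    ¬ 3 ∣ (P.1.map (normalizer ((zpowers y : Subgroup G) : Set G)).subtype).index := by
  haveI : Fact (Nat.Prime 3) := ⟨Nat.prime_three⟩
  obtain ⟨P, hP⟩ := (K.isPGroup_P0.comap_subtype
    (K := normalizer ((zpowers y : Subgroup G) : Set G))).exists_le_sylow
  obtain ⟨P1, hP1⟩ : ∃ P1, P1 = P.1.map (normalizer ((zpowers y : Subgroup G) : Set G)).subtype := ⟨_, rfl⟩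
  have hP0le : K.P0 ≤ P1 := by
    intro a ha
    have haN : a ∈ normalizer ((zpowers y : Subgroup G) : Set G) := K.cent_le_normalizer (by
      obtain ⟨c, -, rfl⟩ := ha; exact c.2)
    rw [hP1]
    exact ⟨⟨a, haN⟩, hP (mem_subgroupOf.2 ha), rfl⟩
  refine ⟨P, hP1 ▸ K.A_le_P0.trans hP0le, ?_⟩
  rw [← hP1]
  intro h3
  have hP1p : IsPGroup 3 ↥P1 := hP1 ▸ P.2.map _
  have hP1le : P1 ≤ normalizer ((zpowers y : Subgroup G) : Set G) := hP1 ▸ map_subtype_le _
  have hcy : ∀ h ∈ P1, h * y = y * h := fun h hh => by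
    obtain ⟨k, hk⟩ := hP1p ⟨h, hh⟩
    exact K.comm_of_three (hP1le hh) (congrArg Subtype.val hk)
  obtain ⟨k, hk⟩ := IsPGroup.iff_card.1 hP1p
  have hdvd : 3 ^ (k + 1) ∣ Nat.card G := by
    rw [← card_mul_index P1, hk, pow_succ]; exact mul_dvd_mul_left _ h3
  haveI : (P1.subgroupOf (normalizer (P1 : Set G))).Normal := normal_in_normalizer
  obtain ⟨q, hq⟩ := exists_prime_orderOf_dvd_card'
    (G := ↥(normalizer (P1 : Set G)) ⧸ P1.subgroupOf (normalizer (P1 : Set G))) 3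
    (Sylow.prime_dvd_card_quotient_normalizer hdvd hk)
  obtain ⟨n, rfl⟩ := QuotientGroup.mk_surjective q
  have hnP : (n : G) ∉ P1 := fun h => by
    rw [(QuotientGroup.eq_one_iff n).2 (mem_subgroupOf.2 h), orderOf_one] at hq
    norm_num at hq
  have hn3 : (n : G) ^ 3 ∈ P1 := by
    have := pow_orderOf_eq_one (n : ↥(normalizer (P1 : Set G)) ⧸ P1.subgroupOf (normalizer (P1 : Set G)))
    rw [hq, ← QuotientGroup.mk_pow, QuotientGroup.eq_one_iff, mem_subgroupOf] at this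
    simpa using this
  obtain ⟨j, hj⟩ := hP1p ⟨_, hn3⟩
  have hnord : (n : G) ^ 3 ^ (j + 1) = 1 := by
    rw [pow_succ', pow_mul]; exact congrArg Subtype.val hj
  have hnN : (n : G) ∉ normalizer ((zpowers y : Subgroup G) : Set G) := by
    intro hn
    have hp := hP1p.to_sup_of_normal_left' (isPGroup_zpowers_of_pow hnord) (zpowers_le.2 n.2)
    have hmax := P.3 (hp.comap_subtype (K := normalizer ((zpowers y : Subgroup G) : Set G)))
      (fun a ha => mem_subgroupOf.2 (mem_sup_left (hP1 ▸ mem_map_of_mem _ ha)))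
    have hnP' : (⟨n, hn⟩ : ↥(normalizer ((zpowers y : Subgroup G) : Set G))) ∈ P.1 := by
      rw [← hmax]; exact mem_subgroupOf.2 (mem_sup_right (mem_zpowers _))
    exact hnP (hP1 ▸ mem_map_of_mem _ hnP')
  have hcases : ∀ g ∈ normalizer (P1 : Set G), g * y * g⁻¹ ∈ zpowers y ∨ g * y * g⁻¹ ∈ zpowers y2 := by
    intro g hg
    obtain ⟨a, ha, b, hb, e⟩ := K.cent_P0 (x := g * y * g⁻¹) fun h hh => by
      have h1 : g⁻¹ * h * g ∈ P1 := (mem_normalizer_iff''.1 hg h).1 (hP0le hh)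
      calc h * (g * y * g⁻¹) = g * (g⁻¹ * h * g * y) * g⁻¹ := by group
        _ = g * (y * (g⁻¹ * h * g)) * g⁻¹ := by rw [hcy _ h1]
        _ = _ := by group
    exact K.conj_cases ha hb e (isConj_iff.2 ⟨g, rfl⟩)
  rcases hcases n n.2 with h1 | h1
  · exact hnN (K.mem_normalizer_of_conj h1)
  rcases hcases ((n : G) * n) (mul_mem n.2 n.2) with h2 | h2
  · exact hnN (zpowers_le.2 (K.mem_normalizer_of_conj h2) (mem_zpowers_mul_self hnord))
  -- the second conjugate is a power of the first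
  have heq : zpowers ((n : G) * y * (n : G)⁻¹) = zpowers y2 := by
    refine eq_of_le_of_card_ge (zpowers_le.2 h1) ?_
    rw [Nat.card_zpowers, Nat.card_zpowers,
      orderOf_eq_of_isConj (isConj_iff.2 ⟨(n : G), rfl⟩ : IsConj y ((n : G) * y * (n : G)⁻¹)),
      orderOf_eq_of_isConj K.conj_y2]
  rw [← heq] at h2
  obtain ⟨i, hi⟩ := mem_zpowers_iff.1 h2
  rw [conj_zpow] at hi
  refine hnN (K.mem_normalizer_of_conj ⟨i, ?_⟩)
  show y ^ i = _
  calc y ^ i = (n : G)⁻¹ * ((n : G) * y ^ i * (n : G)⁻¹) * n := by group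
    _ = _ := by rw [hi]; group

/-- Every Sylow 3-subgroup of the normaliser of `⟨y⟩`. -/
theorem sylow_facts (P : Sylow 3 ↥(normalizer ((zpowers y : Subgroup G) : Set G))) :
    ¬ 3 ∣ (P.1.map (normalizer ((zpowers y : Subgroup G) : Set G)).subtype).index ∧
      ∃ g : G, K.A.map (MulAut.conj g).toMonoidHom ≤
        P.1.map (normalizer ((zpowers y : Subgroup G) : Set G)).subtype := by
  haveI : Fact (Nat.Prime 3) := ⟨Nat.prime_three⟩
  obtain ⟨P', hA, hidx⟩ := K.exists_sylow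
  have hc : Nat.card ↥(P.1.map (normalizer ((zpowers y : Subgroup G) : Set G)).subtype) =
      Nat.card ↥(P'.1.map (normalizer ((zpowers y : Subgroup G) : Set G)).subtype) := by
    rw [card_map_of_injective (subtype_injective _), card_map_of_injective (subtype_injective _),
      Sylow.card_eq_multiplicity P, Sylow.card_eq_multiplicity P']
  refine ⟨fun h => hidx ?_, ?_⟩
  · have e1 := card_mul_index (P.1.map (normalizer ((zpowers y : Subgroup G) : Set G)).subtype)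
    rw [← card_mul_index (P'.1.map (normalizer ((zpowers y : Subgroup G) : Set G)).subtype), hc] at e1
    rwa [Nat.eq_of_mul_eq_mul_left Nat.card_pos e1] at h
  · obtain ⟨c, hcP⟩ := MulAction.exists_smul_eq ↥(normalizer ((zpowers y : Subgroup G) : Set G)) P' P
    refine ⟨c, ?_⟩
    rintro _ ⟨a, ha, rfl⟩
    obtain ⟨b, hb, rfl⟩ := hA ha
    refine ⟨c * b * c⁻¹, ?_, rfl⟩
    rw [← hcP]
    exact smul_mem_pointwise_smul b (MulAut.conj c) P'.1 hb

end Ctx

end CfsgLib.InvChar.SuzM11
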